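import Cfsg.Agent.Lib.FewSizes.Basic
import Cfsg.Agent.Lib.CharApps.ClassSizes.FourMain
import Cfsg.Agent.Lib.Chars.Burnside

/-!
# The smallest centraliser order divides only one of the others
-/

set_option autoImplicit false
set_option linter.style.haveILetI false

namespace CfsgLib.FewSizes

open CfsgLib.ConjRankThree CharApps.ClassSizes

universe u

variable {G : Type u} [Group G] [Finite G]

local notation "C(" g ")" => Subgroup.centralizer ({g} : Set G)

/-- An element of order `p` centralising a Sylow subgroup. -/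
theorem exists_full_prime {p : ℕ} (hp : p.Prime) (hd : p ∣ Nat.card G) :
    ∃ z : G, orderOf z = p ∧ ∀ n, p ^ n ∣ Nat.card G → p ^ n ∣ cord z := by
  haveI := Fact.mk hp
  obtain ⟨P⟩ : Nonempty (Sylow p G) := inferInstance
  have hne : Nontrivial (P : Subgroup G) :=
    (Subgroup.nontrivial_iff_ne_bot _).2 (P.ne_bot_of_dvd_card hd)
  haveI := P.isPGroup'.center_nontrivial
  have hpc : IsPGroup p (Subgroup.center (P : Subgroup G)) := P.isPGroup'.to_subgroup _
  obtain ⟨k, hk⟩ := IsPGroup.iff_card.1 hpc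
  have hk0 : k ≠ 0 := fun h0 => by
    have := Finite.one_lt_card (α := Subgroup.center (P : Subgroup G))
    rw [hk, h0, pow_zero] at this
    omega
  obtain ⟨z, hz⟩ := exists_prime_orderOf_dvd_card' p (hk ▸ dvd_pow_self p hk0)
  refine ⟨(z.1 : G), by rw [Subgroup.orderOf_coe, Subgroup.orderOf_coe, hz], fun n hn =>
    (P.pow_dvd_card_of_pow_dvd_card hn).trans (Subgroup.card_dvd_of_le fun g hg => mem_C.2 ?_)⟩
  exact congrArg Subtype.val (Subgroup.mem_center_iff.1 z.2 ⟨g, hg⟩)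

/-- A centraliser order missing part of the `p`-part is not full. -/
theorem not_full {p i o : ℕ} (hp : p.Prime) (hio : i * o = Nat.card G) (hd : p ∣ i) :
    ¬ p ^ (Nat.card G).factorization p ∣ o := by
  intro hfull
  have hG : Nat.card G ≠ 0 := Nat.card_pos.ne'
  have : p ^ ((Nat.card G).factorization p + 1) ∣ Nat.card G := by
    rw [pow_succ']
    exact (Nat.mul_dvd_mul hd hfull).trans (dvd_of_eq hio)
  have := (hp.pow_dvd_iff_le_factorization hG).1 this
  omega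

namespace Conf

variable {a b c : ℕ} (h : Conf G a b c)
include h

omit [Finite G] in
theorem symm (hbc : b ∣ c) : Conf G c b a :=
  ⟨h.hZ, h.hns, hbc, h.hbc, h.hba, h.hac.symm,
    fun g hg => by rcases h.hall g hg with e | e | e <;> simp [e], h.hwc, h.hxa, h.hvb⟩

theorem eq_gcd_of_cord {o : ℕ} (ho : o = a ∨ o = b ∨ o = c) (he : o = a.gcd c) : b = a.gcd c := by
  rcases ho with e | e | e
  · exact absurd (Nat.gcd_eq_left_iff_dvd.1 (e ▸ he).symm) h.not_a_dvd_c
  · exact e ▸ he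
  · exact absurd (Nat.gcd_eq_right_iff_dvd.1 (e ▸ he).symm) h.not_c_dvd_a

theorem eq_gcd_of_commute {x w : G} (hxa : cord x = a) (hwc : cord w = c) (hcomm : Commute x w)
    (hco : (orderOf x).Coprime (orderOf w)) (hx : x ≠ 1) : b = a.gcd c := by
  have hC := C_mul_eq hcomm hco
  have hne : x * w ≠ 1 := fun e => hx (by
    rw [eq_inv_of_mul_eq_one_right e, orderOf_inv, Nat.coprime_self, orderOf_eq_one_iff] at hco
    exact hco)
  refine h.eq_gcd_of_cord (h.hall _ hne) ?_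
  show Nat.card C(x * w) = _
  rw [hC]
  exact (h.pair hxa hwc).1

theorem eq_gcd_of_three {z z' s : G} (hs : s ≠ 1) (hz : z ≠ 1) (hza : cord z = a)
    (hzc : cord z' = c) (h1 : s ∈ C(z)) (h2 : s ∈ C(z'))
    (hco1 : (orderOf s).Coprime (orderOf z)) (hco2 : (orderOf s).Coprime (orderOf z'))
    (hco3 : (orderOf z).Coprime (orderOf z')) (hbc : b ∣ c) : b = a.gcd c := by
  rcases h.hall s hs with e | e | e
  · exact h.eq_gcd_of_commute e hzc (mem_C.1 h2) hco2 hs
  · have hne : s * z' ≠ 1 := fun e1 => hs (by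
      rw [eq_inv_of_mul_eq_one_right e1, orderOf_inv, Nat.coprime_self, orderOf_eq_one_iff] at hco2
      exact hco2)
    have hle : C(s * z') ≤ C(s) ⊓ C(z') := (C_mul_eq (mem_C.1 h2) hco2).le
    have heq : C(s * z') = C(s) := by
      refine Subgroup.eq_of_le_of_card_ge (hle.trans inf_le_left) ?_
      show cord s ≤ cord (s * z')
      have hd : cord (s * z') ∣ cord s := Subgroup.card_dvd_of_le (hle.trans inf_le_left)
      rcases h.hall _ hne with e' | e' | e' <;> rw [e, e'] at hd ⊢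
      · exact absurd hd h.not_a_dvd_b
      · exact absurd hd h.not_c_dvd_b
    have hzz : z ∈ C(z') := (hle.trans inf_le_right) (heq.symm ▸ mem_C.2 (mem_C.1 h1).symm)
    exact h.eq_gcd_of_commute hza hzc (mem_C.1 hzz) hco3 hz
  · rw [Nat.gcd_comm]
    refine (h.symm hbc).eq_gcd_of_commute e hza (mem_C.1 h1) hco1 hs

/-- `b = gcd(a, c)` gives coprime sizes `m`, `n` and `m n`. -/
theorem false_of_eq_gcd (hbh : b = a.gcd c) : False := by
  obtain ⟨x, hx1, hxa⟩ := h.hxa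
  obtain ⟨w, hw1, hwc⟩ := h.hwc
  obtain ⟨v, hv1, hvb⟩ := h.hvb
  have hm : idx x * a = Nat.card G := hxa ▸ C(x).index_mul_card
  have hn : idx w * c = Nat.card G := hwc ▸ C(w).index_mul_card
  have hb0 : 0 < b := hvb ▸ Nat.card_pos
  have key : b * Nat.card G = a * c := by rw [hbh, ← h.lcm_eq, Nat.gcd_mul_lcm]
  have hmn : idx x * idx w * b = Nat.card G := by
    refine Nat.eq_of_mul_eq_mul_right (Nat.card_pos (α := G)) ?_
    rw [mul_assoc (idx x * idx w), key]
    calc idx x * idx w * (a * c) = (idx x * a) * (idx w * c) := by ring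
      _ = _ := by rw [hm, hn]
  have hidx : ∀ g : G, ∀ o, cord g = o → idx g * o = Nat.card G := fun g o e =>
    e ▸ C(g).index_mul_card
  have ha0 : 0 < a := hxa ▸ Nat.card_pos
  have hc0 : 0 < c := hwc ▸ Nat.card_pos
  have hone : ∀ {g : G}, g ≠ 1 → 1 < idx g := fun {g} hg => by
    have h1 := idx_pos g
    have h2 : idx g ≠ 1 := fun e => h.not_center hg (idx_eq_one_iff.1 e)
    omega
  have hcop : (idx w).Coprime (idx x) := by
    obtain ⟨i, hi⟩ := Nat.gcd_dvd_left (idx w) (idx x)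
    obtain ⟨j, hj⟩ := Nat.gcd_dvd_right (idx w) (idx x)
    have hd : 0 < (idx w).gcd (idx x) := Nat.gcd_pos_of_pos_left _ (idx_pos w)
    show (idx w).gcd (idx x) = 1
    generalize (idx w).gcd (idx x) = d at hi hj hd
    have h1 : a ∣ Nat.card G / d :=
      ⟨j, by rw [← hm, hj, mul_assoc, Nat.mul_div_cancel_left _ hd, mul_comm]⟩
    have h2 : c ∣ Nat.card G / d :=
      ⟨i, by rw [← hn, hi, mul_assoc, Nat.mul_div_cancel_left _ hd, mul_comm]⟩
    have h3 := Nat.lcm_dvd h1 h2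
    rw [h.lcm_eq] at h3
    by_contra hne
    have hdd : d ∣ Nat.card G := ⟨i * c, by rw [← hn, hi, mul_assoc]⟩
    have h4 := Nat.le_of_dvd (Nat.div_pos (Nat.le_of_dvd Nat.card_pos hdd) hd) h3
    have h5 := Nat.div_lt_self (Nat.card_pos (α := G)) (by omega : 1 < d)
    omega
  have S : Four G (idx w) (idx x) := {
    hn := hone hw1
    hm := hone hx1
    hcop := hcop
    h := fun g => by
      by_cases hg : g = 1
      · exact Or.inl (idx_eq_one_iff.2 (hg ▸ one_mem _))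
      rcases h.hall g hg with e | e | e
      · exact Or.inr (Or.inr (Or.inl (Nat.eq_of_mul_eq_mul_right ha0 ((hidx g a e).trans hm.symm))))
      · exact Or.inr (Or.inr (Or.inr (Nat.eq_of_mul_eq_mul_right hb0
          ((hidx g b e).trans (by rw [mul_comm (idx w), hmn])))))
      · exact Or.inr (Or.inl (Nat.eq_of_mul_eq_mul_right hc0 ((hidx g c e).trans hn.symm)))
    hexn := ⟨w, rfl⟩
    hexm := ⟨x, rfl⟩
    hexnm := ⟨v, Nat.eq_of_mul_eq_mul_right hb0
      ((hidx v b hvb).trans (by rw [mul_comm (idx w), hmn]))⟩ }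
  haveI := S.nilpotent.1
  exact h.hns inferInstance

/-- The case of a prime power index. -/
theorem false_of_prime_pow (hbc : b ∣ c) {t i n m : ℕ} (ht : t.Prime) (hn : n * c = Nat.card G)
    (hm : m * a = Nat.card G) (hni : n = t ^ i) (hm1 : 1 < m)
    (hh : ∀ t' : ℕ, t'.Prime → t' ∣ a.gcd c → t' = t ∨ ∃ j, m = t' ^ j) : False := by
  obtain ⟨R, hRn, hRs, hmax⟩ := exists_radical (G := G)
  have hidx : ∀ g : G, ∀ o k, cord g = o → k * o = Nat.card G → C(g).index = k := fun g o k e hk => by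
    have h1 := C(g).index_mul_card
    rw [show Nat.card C(g) = o from e, ← hk] at h1
    exact Nat.eq_of_mul_eq_mul_right (e ▸ Nat.card_pos) h1
  have ha : n * a.gcd c = a := by
    refine Nat.eq_of_mul_eq_mul_right (Nat.card_pos (α := G)) ?_
    rw [mul_assoc, ← h.lcm_eq, Nat.gcd_mul_lcm, h.lcm_eq]
    calc n * (a * c) = a * (n * c) := by ring
      _ = _ := by rw [hn]
  obtain ⟨t', ht', hdiv⟩ : ∃ t' : ℕ, t'.Prime ∧ ∀ g : G, g ∉ R → ∀ r : ℕ, r.Prime →
      r ∣ cord g → r = t ∨ r = t' := by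
    have hcases : ∀ g : G, g ∉ R → cord g = a ∨ cord g = b := fun g hg => by
      rcases h.hall g (fun e => hg (e ▸ one_mem R)) with e | e | e
      · exact Or.inl e
      · exact Or.inr e
      · exact absurd (mem_radical_of_prime_pow hmax ht ((hidx g c n e hn).trans hni)) hg
    by_cases hex : ∃ t' : ℕ, t'.Prime ∧ t' ∣ a.gcd c ∧ t' ≠ t
    · obtain ⟨t', ht', htd, hne⟩ := hex
      obtain ⟨j, hj⟩ := (hh t' ht' htd).resolve_left hne
      refine ⟨t', ht', fun g hg r hr hrd => ?_⟩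
      rcases hcases g hg with e | e
      · exact absurd (mem_radical_of_prime_pow hmax ht' ((hidx g a m e hm).trans hj)) hg
      · have hrh : r ∣ a.gcd c := (e ▸ hrd).trans (Nat.dvd_gcd h.hb hbc)
        rcases hh r hr hrh with h1 | ⟨k, hk⟩
        · exact Or.inl h1
        · obtain ⟨l, hl, hlm⟩ := Nat.exists_prime_and_dvd hm1.ne'
          exact Or.inr (((Nat.prime_dvd_prime_iff_eq hl hr).1 (hl.dvd_of_dvd_pow (hk ▸ hlm))).symm.trans
            ((Nat.prime_dvd_prime_iff_eq hl ht').1 (hl.dvd_of_dvd_pow (hj ▸ hlm))))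
    · push Not at hex
      refine ⟨t, ht, fun g hg r hr hrd => Or.inl ?_⟩
      have hra : r ∣ a := by
        rcases hcases g hg with e | e
        · exact e ▸ hrd
        · exact (e ▸ hrd).trans h.hb
      rcases (Nat.Prime.dvd_mul hr).1 (ha.symm ▸ hra) with h1 | h1
      · exact (Nat.prime_dvd_prime_iff_eq hr ht).1 (hr.dvd_of_dvd_pow (hni ▸ h1))
      · exact hex r hr h1
  haveI := hRn
  haveI := hRs
  haveI : Group.IsSolvable (G ⧸ R) := by
    refine Chars.isSolvable_of_primeFactors_pair t t' fun r hr hrd => ?_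
    haveI := Fact.mk hr
    obtain ⟨q, hq⟩ := exists_prime_orderOf_dvd_card' r hrd
    obtain ⟨g, rfl⟩ := QuotientGroup.mk'_surjective R q
    refine hdiv g (fun hg => hr.one_lt.ne' ?_) r hr ?_
    · rw [← hq, orderOf_eq_one_iff, ← MonoidHom.mem_ker, QuotientGroup.ker_mk']
      exact hg
    · exact (hq ▸ orderOf_map_dvd _ g).trans (Subgroup.orderOf_dvd_natCard _ (self_mem_C g))
  exact h.hns ((Group.isSolvable_iff_subgroup_quotient R).2 ⟨hRs, inferInstance⟩)

theorem not_b_dvd_c : ¬ b ∣ c := by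
  intro hbc
  refine h.false_of_eq_gcd ?_
  by_contra hne
  obtain ⟨x, hx1, hxa⟩ := h.hxa
  obtain ⟨w, hw1, hwc⟩ := h.hwc
  obtain ⟨v, hv1, hvb⟩ := h.hvb
  have hm : idx x * a = Nat.card G := hxa ▸ C(x).index_mul_card
  have hn : idx w * c = Nat.card G := hwc ▸ C(w).index_mul_card
  have hone : ∀ {g : G}, g ≠ 1 → 1 < idx g := fun {g} hg => by
    have h1 := idx_pos g
    have h2 : idx g ≠ 1 := fun e => h.not_center hg (idx_eq_one_iff.1 e)
    omega
  have hg0 : 1 < a.gcd c := lt_of_lt_of_le (hvb ▸ h.one_lt_cord hv1)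
    (Nat.le_of_dvd (Nat.gcd_pos_of_pos_left _ (hxa ▸ Nat.card_pos)) (Nat.dvd_gcd h.hb hbc))
  have hncop : ∀ p : ℕ, p.Prime → p ∣ idx w → ¬ p ∣ idx x := by
    intro p hp hpn hpm
    obtain ⟨z, hzo, hz⟩ := exists_full_prime hp (hn ▸ hpn.mul_right c)
    have hz1 := hz _ (Nat.ordProj_dvd (Nat.card G) p)
    have hz0 : z ≠ 1 := fun e => hp.one_lt.ne' (by rw [← hzo, e, orderOf_one])
    rcases h.hall z hz0 with e | e | e <;> rw [e] at hz1
    · exact not_full hp hm hpm hz1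
    · exact not_full hp hm hpm (hz1.trans h.hb)
    · exact not_full hp hn hpn hz1
  have getz : ∀ {A C : ℕ}, Conf G A b C → ∀ {i : ℕ}, i * C = Nat.card G → b ∣ C →
      ∀ p : ℕ, p.Prime → p ∣ i → ∃ z : G, z ≠ 1 ∧ orderOf z = p ∧ cord z = A := by
    intro A C H i hi hbC p hp hpi
    obtain ⟨z, hzo, hz⟩ := exists_full_prime hp (hi ▸ hpi.mul_right C)
    have hz1 : z ≠ 1 := fun e => hp.one_lt.ne' (by rw [← hzo, e, orderOf_one])
    have hz2 := hz _ (Nat.ordProj_dvd (Nat.card G) p)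
    refine ⟨z, hz1, hzo, ?_⟩
    rcases H.hall z hz1 with e | e | e
    · exact e
    · exact absurd ((e ▸ hz2).trans hbC) (not_full hp hi hpi)
    · exact absurd (e ▸ hz2) (not_full hp hi hpi)
  by_cases hgood : ∃ p₀ p₁ t : ℕ, p₀.Prime ∧ p₁.Prime ∧ t.Prime ∧ p₀ ∣ idx w ∧ p₁ ∣ idx x ∧
      t ∣ a.gcd c ∧ t ≠ p₀ ∧ t ≠ p₁
  · obtain ⟨p₀, p₁, t, hp₀, hp₁, ht, hd₀, hd₁, htd, ht₀, ht₁⟩ := hgood
    obtain ⟨z, hz1, hzo, hza⟩ := getz h hn hbc p₀ hp₀ hd₀
    obtain ⟨z', hz'1, hz'o, hz'c⟩ := getz (h.symm hbc) hm h.hb p₁ hp₁ hd₁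
    haveI := Fact.mk ht
    obtain ⟨s, hs⟩ := exists_prime_orderOf_dvd_card' (G := (C(z) ⊓ C(z') : Subgroup G)) t
      ((h.pair hza hz'c).1.symm ▸ htd)
    have hso : orderOf (s : G) = t := by rw [Subgroup.orderOf_coe, hs]
    exact hne (h.eq_gcd_of_three (fun e => ht.one_lt.ne' (by rw [← hso, e, orderOf_one])) hz1 hza
      hz'c s.2.1 s.2.2 (by rw [hso, hzo]; exact (Nat.coprime_primes ht hp₀).2 ht₀)
      (by rw [hso, hz'o]; exact (Nat.coprime_primes ht hp₁).2 ht₁)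
      (by rw [hzo, hz'o]; exact (Nat.coprime_primes hp₀ hp₁).2 fun e => hncop p₀ hp₀ hd₀ (e ▸ hd₁))
      hbc)
  push Not at hgood
  have side : ∀ {A C : ℕ}, Conf G A b C → b ∣ C → ∀ {n m : ℕ}, n * C = Nat.card G →
      m * A = Nat.card G → 1 < n → 1 < m → (∀ p : ℕ, p.Prime → p ∣ n → ¬ p ∣ m) →
      (∀ p₀ p₁ t : ℕ, p₀.Prime → p₁.Prime → t.Prime → p₀ ∣ n → p₁ ∣ m → t ∣ A.gcd C →
        t ≠ p₀ → t = p₁) →
      ∀ t : ℕ, t.Prime → t ∣ A.gcd C → t ∣ n → False := by
    intro A C H hbC n m hn hm hn1 hm1 hco hall t ht htd htn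
    obtain ⟨p₁, hp₁, hd₁⟩ := Nat.exists_prime_and_dvd hm1.ne'
    have huniq : ∀ p₀ : ℕ, p₀.Prime → p₀ ∣ n → p₀ = t := fun p₀ hp₀ hd₀ => by
      by_contra hne
      exact hco t ht htn ((hall p₀ p₁ t hp₀ hp₁ ht hd₀ hd₁ htd (Ne.symm hne)) ▸ hd₁)
    refine H.false_of_prime_pow hbC (i := _) ht hn hm
      (Nat.eq_prime_pow_of_unique_prime_dvd (by omega) fun {d} hd hdd => huniq d hd hdd) hm1
      fun t' ht' htd' => ?_
    by_cases htt : t' = t
    · exact Or.inl htt
    · exact Or.inr ⟨_, Nat.eq_prime_pow_of_unique_prime_dvd (by omega) fun {d} hd hdd =>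
        (hall t d t' ht hd ht' htn hdd htd' htt).symm⟩
  obtain ⟨t, ht, htd⟩ := Nat.exists_prime_and_dvd hg0.ne'
  obtain ⟨p₀, hp₀, hd₀⟩ := Nat.exists_prime_and_dvd (hone hw1).ne'
  obtain ⟨p₁, hp₁, hd₁⟩ := Nat.exists_prime_and_dvd (hone hx1).ne'
  by_cases ht0 : t = p₀
  · exact side h hbc hn hm (hone hw1) (hone hx1) hncop hgood t ht htd (ht0 ▸ hd₀)
  · have ht1 := hgood p₀ p₁ t hp₀ hp₁ ht hd₀ hd₁ htd ht0
    refine side (h.symm hbc) h.hb hm hn (hone hx1) (hone hw1) (fun p hp h1 h2 => hncop p hp h2 h1)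
      (fun p₀ p₁ t hp₀ hp₁ ht hd₀ hd₁ htd hne => ?_) t ht (Nat.gcd_comm a c ▸ htd) (ht1 ▸ hd₁)
    by_contra hne'
    exact hne (hgood p₁ p₀ t hp₁ hp₀ ht hd₁ hd₀ (Nat.gcd_comm c a ▸ htd) hne')

end Conf

end CfsgLib.FewSizes
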