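import Cfsg.Agent.Lib.ConjRankThree.TypeTwo
import Cfsg.Agent.Lib.CharApps.Kazarin
import Cfsg.Agent.Lib.Base.ThompsonFPF
import Cfsg.Agent.Lib.SolvStruct.KegelWielandt.Main

/-!
# Groups with trivial centre and three class sizes, one dividing another: setting and tools
-/

set_option autoImplicit false
set_option linter.style.haveILetI false

namespace CfsgLib.FewSizes

open CfsgLib.ConjRankThree CharApps.ClassSizes
open scoped commutatorElement

universe u

variable {G : Type u} [Group G]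

local notation "C(" g ")" => Subgroup.centralizer ({g} : Set G)

/-- The configuration: centraliser orders `b ∣ a` and `c` in a non-soluble group without centre. -/
structure Conf (G : Type u) [Group G] (a b c : ℕ) : Prop where
  hZ : Subgroup.center G = ⊥
  hns : ¬ Group.IsSolvable G
  hb : b ∣ a
  hba : b ≠ a
  hbc : b ≠ c
  hac : a ≠ c
  hall : ∀ g : G, g ≠ 1 → cord g = a ∨ cord g = b ∨ cord g = c
  hxa : ∃ x : G, x ≠ 1 ∧ cord x = a
  hwc : ∃ w : G, w ≠ 1 ∧ cord w = c
  hvb : ∃ v : G, v ≠ 1 ∧ cord v = b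

variable [Finite G]

theorem card_dvd_pow_of_card {H : Subgroup G} {q : ℕ} (hH : IsPGroup q H) [Fact q.Prime] :
    ∃ k, Nat.card H = q ^ k := IsPGroup.iff_card.1 hH

/-- A product bound inside an overgroup. -/
theorem card_mul_le {H K L : Subgroup G} (hH : H ≤ L) (hK : K ≤ L) :
    Nat.card H * Nat.card K ≤ Nat.card L * Nat.card (H ⊓ K : Subgroup G) := by
  have hcard : ∀ S : Subgroup G, S ≤ L → Nat.card (S.subgroupOf L) = Nat.card S := fun S hS =>
    Nat.card_congr (Subgroup.subgroupOfEquivOfLe hS).toEquiv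
  rw [← hcard H hH, ← hcard K hK, ← hcard (H ⊓ K) (inf_le_left.trans hH),
    show (H ⊓ K).subgroupOf L = H.subgroupOf L ⊓ K.subgroupOf L from Subgroup.comap_inf _ _ _]
  set X := H.subgroupOf L
  set W := K.subgroupOf L
  refine Nat.le_of_mul_le_mul_left (?_ : (X ⊓ W).index * _ ≤ (X ⊓ W).index * _)
    (Nat.pos_of_ne_zero Subgroup.index_ne_zero_of_finite)
  calc (X ⊓ W).index * (Nat.card X * Nat.card W)
      ≤ X.index * W.index * (Nat.card X * Nat.card W) :=
        Nat.mul_le_mul_right _ Subgroup.index_inf_le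
    _ = (X.index * Nat.card X) * (W.index * Nat.card W) := by ring
    _ = _ := by rw [X.index_mul_card, W.index_mul_card, mul_left_comm, (X ⊓ W).index_mul_card]

omit [Finite G] in
/-- A nontrivial soluble normal subgroup contains a nontrivial abelian normal one. -/
theorem exists_comm_normal {R : Subgroup G} [R.Normal] (hs : Group.IsSolvable R) (hR : R ≠ ⊥) :
    ∃ V : Subgroup G, V.Normal ∧ V ≤ R ∧ V ≠ ⊥ ∧ ∀ u ∈ V, ∀ v ∈ V, Commute u v := by
  classical
  have hn := hs.solvable
  obtain ⟨n, hn0⟩ : ∃ n, n + 1 = Nat.find hn := by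
    refine ⟨Nat.find hn - 1, Nat.sub_add_cancel (Nat.pos_of_ne_zero fun h0 => hR ?_)⟩
    have h := Nat.find_spec hn
    rw [h0, derivedSeries_zero] at h
    rw [eq_bot_iff]
    intro g hg
    have hg' : (⟨g, hg⟩ : R) ∈ (⊤ : Subgroup R) := Subgroup.mem_top _
    rw [h, Subgroup.mem_bot] at hg'
    exact Subgroup.mem_bot.2 (congrArg Subtype.val hg')
  have hne : derivedSeries R n ≠ ⊥ := Nat.find_min hn (by omega)
  refine ⟨(derivedSeries R n).map R.subtype, inferInstance, Subgroup.map_subtype_le _,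
    fun h => hne ((Subgroup.map_eq_bot_iff_of_injective _ R.subtype_injective).1 h), ?_⟩
  rintro _ ⟨u, hu, rfl⟩ _ ⟨v, hv, rfl⟩
  have h1 : ⁅u, v⁆ = 1 := by
    have h2 := Subgroup.commutator_mem_commutator hu hv
    rw [← derivedSeries_succ, hn0, Nat.find_spec hn, Subgroup.mem_bot] at h2
    exact h2
  exact congrArg Subtype.val (commutatorElement_eq_one_iff_mul_comm.1 h1)

/-- The soluble radical. -/
theorem exists_radical : ∃ R : Subgroup G, R.Normal ∧ Group.IsSolvable R ∧
    ∀ M : Subgroup G, M.Normal → Group.IsSolvable M → M ≤ R := by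
  classical
  haveI := Fintype.ofFinite (Subgroup G)
  let ι := {M : Subgroup G // M.Normal ∧ Group.IsSolvable M}
  let f : ι → Subgroup G := fun M => M.1
  obtain ⟨hn, hs⟩ := CharApps.Kazarin.isSolvable_iSup_normal f (fun M => M.2.1) (fun M => M.2.2)
    Finset.univ
  exact ⟨_, hn, hs, fun M h1 h2 => Finset.le_sup (f := f) (Finset.mem_univ ⟨M, h1, h2⟩)⟩

/-- Kazarin: elements with a prime power class size lie in the soluble radical. -/
theorem mem_radical_of_prime_pow {R : Subgroup G}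
    (hmax : ∀ M : Subgroup G, M.Normal → Group.IsSolvable M → M ≤ R) {g : G} {p k : ℕ}
    (hp : p.Prime) (hg : C(g).index = p ^ k) : g ∈ R :=
  hmax _ Subgroup.normalClosure_normal (CharApps.Kazarin.isSolvable_normalClosure g hp hg)
    (Subgroup.subset_normalClosure rfl)

/-- A Sylow subgroup central in its normaliser splits off an abelian quotient. -/
theorem commutator_le_of_transfer {q : ℕ} [Fact q.Prime] (P : Sylow q G)
    (hP : Subgroup.normalizer ((P : Subgroup G) : Set G) ≤
      Subgroup.centralizer ((P : Subgroup G) : Set G)) :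
    ∃ K : Subgroup G, K.Normal ∧ commutator G ≤ K ∧ ¬ q ∣ Nat.card K ∧
      Nat.card K * Nat.card (P : Subgroup G) = Nat.card G := by
  refine ⟨(MonoidHom.transferSylow P hP).ker, MonoidHom.normal_ker _, ?_,
    MonoidHom.not_dvd_card_ker_transferSylow P hP,
    (MonoidHom.ker_transferSylow_isComplement' P hP).card_mul_card⟩
  rw [commutator_def, Subgroup.commutator_le]
  intro x _ y _
  rw [MonoidHom.mem_ker, map_commutatorElement, commutatorElement_eq_one_iff_mul_comm]
  have hy := hP (Subgroup.le_normalizer (MonoidHom.transferSylow P hP y).2)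
  exact Subtype.ext (Subgroup.mem_centralizer_iff.1 hy _ (MonoidHom.transferSylow P hP x).2)

namespace Conf

variable {a b c : ℕ} (h : Conf G a b c)
include h

omit [Finite G] in
theorem not_center {g : G} (hg : g ≠ 1) : g ∉ Subgroup.center G := fun hc =>
  hg (Subgroup.mem_bot.1 (h.hZ ▸ hc))

theorem cord_ne_card {g : G} (hg : g ≠ 1) : cord g ≠ Nat.card G := fun he =>
  h.not_center hg (C_eq_top_iff.1 (Subgroup.eq_top_of_card_eq _ he))

theorem lcm_eq : a.lcm c = Nat.card G := by
  obtain ⟨x, -, hxa⟩ := h.hxa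
  obtain ⟨w, -, hwc⟩ := h.hwc
  refine Nat.dvd_antisymm (Nat.lcm_dvd (hxa ▸ C(x).card_subgroup_dvd_card)
    (hwc ▸ C(w).card_subgroup_dvd_card))
    ((Nat.dvd_iff_prime_pow_dvd_dvd _ _).2 fun q n hq hn => ?_)
  rcases eq_or_ne n 0 with rfl | hn0
  · simp
  obtain ⟨z, hz1, hz⟩ := exists_full hq hn hn0
  rcases h.hall z hz1 with e | e | e <;> rw [e] at hz
  · exact hz.trans (Nat.dvd_lcm_left _ _)
  · exact (hz.trans h.hb).trans (Nat.dvd_lcm_left _ _)
  · exact hz.trans (Nat.dvd_lcm_right _ _)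

theorem not_a_dvd_c : ¬ a ∣ c := fun hd => by
  obtain ⟨w, hw1, hwc⟩ := h.hwc
  exact h.cord_ne_card hw1 (hwc.trans ((Nat.lcm_eq_right hd).symm.trans h.lcm_eq))

theorem not_c_dvd_a : ¬ c ∣ a := fun hd => by
  obtain ⟨x, hx1, hxa⟩ := h.hxa
  exact h.cord_ne_card hx1 (hxa.trans ((Nat.lcm_eq_left hd).symm.trans h.lcm_eq))

theorem not_c_dvd_b : ¬ c ∣ b := fun hd => h.not_c_dvd_a (hd.trans h.hb)

theorem not_a_dvd_b : ¬ a ∣ b := fun hd => h.hba (Nat.dvd_antisymm h.hb hd)

theorem one_lt_cord {g : G} (hg : g ≠ 1) : 1 < cord g := by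
  rw [Finite.one_lt_card_iff_nontrivial, Subgroup.nontrivial_iff_ne_bot]
  exact fun hb => hg (Subgroup.mem_bot.1 (hb ▸ self_mem_C g))

/-- Products of an element of centraliser order `a` and one of order `c`. -/
theorem pair {x w : G} (hxa : cord x = a) (hwc : cord w = c) :
    Nat.card (C(x) ⊓ C(w) : Subgroup G) = a.gcd c ∧
      ∀ g : G, ∃ y ∈ C(x), ∃ v ∈ C(w), g = y * v := by
  obtain ⟨hh, hf⟩ := factor C(x) C(w) (by
    show (cord x).lcm (cord w) = _; rw [hxa, hwc, h.lcm_eq])
  exact ⟨by rw [hh]; show (cord x).gcd (cord w) = _; rw [hxa, hwc], hf⟩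

/-- Replace an element by one of prime order in the same centraliser class. -/
theorem exists_prime_of_cord {g : G} (hg : g ≠ 1) {o : ℕ} (hgo : cord g = o)
    (ho : ∀ k : ℕ, (k = a ∨ k = b ∨ k = c) → o ∣ k → k = o) :
    ∃ (z : G) (p : ℕ), z ≠ 1 ∧ p.Prime ∧ orderOf z = p ∧ cord z = o := by
  obtain ⟨p, hp, hpd⟩ := Nat.exists_prime_and_dvd (fun e => hg (orderOf_eq_one_iff.1 e))
  have hord := orderOf_pow_orderOf_div (orderOf_pos g).ne' hpd
  have hne : g ^ (orderOf g / p) ≠ 1 := fun e => hp.one_lt.ne' (by rw [← hord, e, orderOf_one])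
  exact ⟨_, p, hne, hp, hord, ho _ (h.hall _ hne)
    (hgo ▸ Subgroup.card_dvd_of_le (C_le_C_pow g _))⟩

end Conf

end CfsgLib.FewSizes
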