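import Cfsg.Agent.Lib.FewSizes.Radical

/-!
# The final count
-/

set_option autoImplicit false
set_option linter.style.haveILetI false

namespace CfsgLib.FewSizes

open CfsgLib.ConjRankThree CharApps.ClassSizes
open scoped Pointwise

universe u

variable {G : Type u} [Group G] [Finite G]

local notation "C(" g ")" => Subgroup.centralizer ({g} : Set G)

/-- The non-identity elements of the conjugates of `H`. -/
theorem ncard_conj_le (H M : Subgroup G) (hM : M ≤ Subgroup.normalizer (H : Set G)) :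
    {y : G | y ≠ 1 ∧ ∃ g : G, g⁻¹ * y * g ∈ H}.ncard ≤ M.index * (Nat.card H - 1) := by
  classical
  let f : (G ⧸ M) × ↥((H : Set G) \ {1}) → G := fun p => p.1.out * p.2.1 * p.1.out⁻¹
  have hsub : {y : G | y ≠ 1 ∧ ∃ g : G, g⁻¹ * y * g ∈ H} ⊆ Set.range f := by
    rintro y ⟨hy1, g, hg⟩
    obtain ⟨m, hm⟩ := QuotientGroup.mk_out_eq_mul M g
    refine ⟨((g : G ⧸ M), ⟨(m : G)⁻¹ * (g⁻¹ * y * g) * m, ?_, ?_⟩), ?_⟩
    · simpa using (Subgroup.mem_normalizer_iff.1 (inv_mem (hM m.2)) (g⁻¹ * y * g)).1 hg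
    · intro e
      refine hy1 ?_
      rw [Set.mem_singleton_iff] at e
      calc y = g * (m : G) * ((m : G)⁻¹ * (g⁻¹ * y * g) * m) * (g * (m : G))⁻¹ := by group
        _ = 1 := by rw [e]; group
    · show (g : G ⧸ M).out * ((m : G)⁻¹ * (g⁻¹ * y * g) * m) * (g : G ⧸ M).out⁻¹ = y
      rw [hm]; group
  refine (Set.ncard_le_ncard hsub).trans ?_
  rw [← Nat.card_coe_set_eq]
  refine (Finite.card_range_le f).trans ?_
  rw [Nat.card_prod, ← Subgroup.index_eq_card, Nat.card_coe_set_eq,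
    Set.ncard_sdiff_singleton_of_mem H.one_mem, ← Nat.card_coe_set_eq]
  rfl

theorem two_mul_card_le {H M : Subgroup G} (h : H ≤ M) (hne : H ≠ M) :
    2 * Nat.card H ≤ Nat.card M := by
  obtain ⟨k, hk⟩ := Subgroup.card_dvd_of_le h
  rcases k with _ | _ | k
  · exact absurd (by simpa using hk) (Nat.card_pos (α := M)).ne'
  · exact absurd (Subgroup.eq_of_le_of_card_ge h (by simp [hk])) hne
  · rw [hk, mul_comm 2]
    exact Nat.mul_le_mul_left _ (by omega)

/-- A subgroup containing the full `r`-part contains a Sylow subgroup. -/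
theorem exists_sylow_le_of_full {r : ℕ} [Fact r.Prime] (H : Subgroup G)
    (hH : r ^ (Nat.card G).factorization r ∣ Nat.card H) :
    ∃ P : Sylow r G, (P : Subgroup G) ≤ H := by
  have hr : r.Prime := Fact.out
  obtain ⟨T⟩ : Nonempty (Sylow r H) := inferInstance
  have hT : Nat.card ((T : Subgroup H).map H.subtype) = r ^ (Nat.card G).factorization r := by
    rw [Subgroup.card_subtype, T.card_eq_multiplicity]
    refine congrArg _ (le_antisymm ((Nat.factorization_le_iff_dvd Nat.card_pos.ne'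
      Nat.card_pos.ne').2 H.card_subgroup_dvd_card r) ?_)
    exact (hr.pow_dvd_iff_le_factorization Nat.card_pos.ne').1 hH
  exact ⟨Sylow.ofCard _ hT, Subgroup.map_subtype_le _⟩

/-- A Sylow subgroup of a normal subgroup, moved into a given Sylow subgroup. -/
theorem exists_sylow_in_normal {r : ℕ} [Fact r.Prime] (D : Subgroup G) [hD : D.Normal]
    (P : Sylow r G) : ∃ T : Sylow r D, (T : Subgroup D).map D.subtype ≤ (P : Subgroup G) := by
  obtain ⟨Q⟩ : Nonempty (Sylow r D) := inferInstance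
  obtain ⟨P₁, hP₁⟩ := (Q.isPGroup'.map D.subtype).exists_le_sylow
  obtain ⟨k, hk⟩ := MulAction.exists_smul_eq G P₁ P
  set Q' : Subgroup G := ((Q : Subgroup D).map D.subtype).map (MulAut.conj k).toMonoidHom with hQ'
  have hQ'D : Q' ≤ D := by
    rintro _ ⟨_, ⟨t, -, rfl⟩, rfl⟩
    exact hD.conj_mem _ t.2 k
  have hcard : Nat.card (Q'.subgroupOf D) = r ^ (Nat.card D).factorization r := by
    rw [Nat.card_congr (Subgroup.subgroupOfEquivOfLe hQ'D).toEquiv, hQ',
      Subgroup.card_map_of_injective (MulAut.conj k).injective, Subgroup.card_subtype,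
      Q.card_eq_multiplicity]
  refine ⟨Sylow.ofCard _ hcard, ?_⟩
  show (Q'.subgroupOf D).map D.subtype ≤ _
  rw [Subgroup.map_subgroupOf_eq_of_le hQ'D, ← hk, Sylow.coe_subgroup_smul]
  rintro _ ⟨t, ht, rfl⟩
  exact Subgroup.smul_mem_pointwise_smul t (MulAut.conj k) _ (hP₁ ht)

namespace Setup

variable {a b c : ℕ} {A R : Subgroup G} (S : Setup G a b c A R)
include S

/-- No minimal non-soluble normal subgroup exists. -/
theorem false_of_setup : False := by
  classical
  haveI := S.hRn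
  haveI := S.hRs
  haveI : Fintype (Subgroup G) := Fintype.ofFinite _
  obtain ⟨D, hDmem, hDmin⟩ := Finset.exists_min_image
    (Finset.univ.filter fun M : Subgroup G => M.Normal ∧ ¬ Group.IsSolvable M)
    (fun M => Nat.card M)
    ⟨⊤, Finset.mem_filter.2 ⟨Finset.mem_univ _, inferInstance, fun h => S.conf.hns
      (@Group.isSolvable_of_surjective _ _ _ _ (⊤ : Subgroup G).subtype
        (fun g => ⟨⟨g, Subgroup.mem_top g⟩, rfl⟩) h)⟩⟩
  obtain ⟨-, hDn, hDns⟩ := Finset.mem_filter.1 hDmem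
  haveI := hDn
  have hperf : commutator D = ⊤ := by
    by_contra hne
    set D' : Subgroup G := (commutator D).map D.subtype with hD'
    have hlt : Nat.card D' < Nat.card D := by
      rw [hD', Subgroup.card_subtype]
      exact lt_of_le_of_ne (Subgroup.card_le_card_group _)
        fun e => hne ((Subgroup.card_eq_iff_eq_top _).1 e)
    have hs : Group.IsSolvable D' := by
      by_contra hns'
      have := hDmin D' (Finset.mem_filter.2 ⟨Finset.mem_univ _, inferInstance, hns'⟩)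
      omega
    haveI : Group.IsSolvable (commutator D) := by
      haveI := hs
      exact Group.isSolvable_of_isSolvable_injective
        (f := ((commutator D).equivMapOfInjective D.subtype D.subtype_injective).toMonoidHom)
        (MulEquiv.injective _)
    haveI : Group.IsSolvable (D ⧸ commutator D) :=
      Group.isSolvable_of_comm (Abelianization.commGroup D).mul_comm
    exact hDns ((Group.isSolvable_iff_subgroup_quotient (commutator D)).2
      ⟨inferInstance, inferInstance⟩)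
  have htransfer : ∀ (q : ℕ) [Fact q.Prime] (T : Sylow q D), q ∣ Nat.card D →
      ¬ Subgroup.normalizer ((T : Subgroup D) : Set D) ≤
        Subgroup.centralizer ((T : Subgroup D) : Set D) := by
    intro q _ T hq hle
    obtain ⟨K, -, hK, hKq, -⟩ := commutator_le_of_transfer T hle
    rw [hperf, top_le_iff] at hK
    exact hKq (by rw [hK, Subgroup.card_top]; exact hq)
  set A' := A.subgroupOf D with hA'
  set R' := R.subgroupOf D with hR'
  set M₁ := (Subgroup.normalizer (A : Set G)).subgroupOf D with hM₁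
  obtain ⟨u, huD, huA, hu1⟩ : ∃ u, u ∈ D ∧ u ∈ A ∧ u ≠ 1 := by
    by_contra hno
    push Not at hno
    haveI := (S.fpf (M := D) ((Subgroup.eq_bot_iff_forall _).2 fun v hv =>
      hno v hv.1 hv.2)).isNilpotent S.A_ne_bot
    exact hDns inferInstance
  obtain ⟨q, hq, hqd⟩ := Nat.exists_prime_and_dvd (fun e => hu1 (orderOf_eq_one_iff.1 e))
  haveI := Fact.mk hq
  have hqc : q ∣ c := hqd.trans (S.hAc ▸ A.orderOf_dvd_natCard huA)
  have hqD : q ∣ Nat.card D := hqd.trans (D.orderOf_dvd_natCard huD)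
  obtain ⟨P, hPA⟩ := S.exists_sylow_le hqc
  obtain ⟨T, hTP⟩ := exists_sylow_in_normal D P
  have hTA : ∀ t : D, t ∈ (T : Subgroup D) → (t : G) ∈ A := fun t ht =>
    hPA (hTP ⟨t, ht, rfl⟩)
  obtain ⟨t₀, ht₀, ht₀1⟩ := (Subgroup.bot_or_exists_ne_one (T : Subgroup D)).resolve_left
    (T.ne_bot_of_dvd_card hqD)
  have hne₀ : (t₀ : G) ≠ 1 := fun e => ht₀1 (Subtype.ext e)
  have hfus : ∀ {g : G}, g ∈ Subgroup.normalizer (((T : Subgroup D).map D.subtype : Subgroup G) : Set G) →
      g ∈ Subgroup.normalizer (A : Set G) := fun {g} hg =>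
    mem_normalizer_of_fusion S.hTI (hTA t₀ ht₀) hne₀ (by
      obtain ⟨t', ht', he⟩ := (Subgroup.mem_normalizer_iff.1 (inv_mem hg) (t₀ : G)).1 ⟨t₀, ht₀, rfl⟩
      rw [inv_inv] at he
      exact he ▸ hTA t' ht')
  have hA'M : A' ≠ M₁ := fun heq => htransfer q T hqD fun g hg => by
    have hgN : (g : G) ∈ Subgroup.normalizer (A : Set G) := by
      refine mem_normalizer_of_fusion S.hTI (hTA t₀ ht₀) hne₀ ?_
      have := (Subgroup.mem_normalizer_iff.1 (inv_mem hg) t₀).1 ht₀
      rw [inv_inv] at this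
      exact hTA _ this
    have hgA : (g : G) ∈ A := (heq.symm ▸ hgN : g ∈ A')
    exact Subgroup.mem_centralizer_iff.2 fun y hy => Subtype.ext
      (congrArg (fun t : A => (t : G)) (A_comm S.hTI ⟨_, hTA y hy⟩ ⟨_, hgA⟩))
  have hfrat : ∀ k : G, ∃ d ∈ D, ∃ f ∈ Subgroup.normalizer (A : Set G), k = d * f := fun k => by
    have htop := Sylow.normalizer_sup_eq_top (N := D) T
    rw [sup_comm] at htop
    obtain ⟨d, hd, f, hf, he⟩ := Subgroup.mem_sup_of_normal_left.1 (htop.symm ▸ Subgroup.mem_top k)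
    exact ⟨d, hd, f, hfus hf, he.symm⟩
  have hR'i : Nat.card R' ≤ M₁.index := by
    rw [Subgroup.index_eq_card]
    refine Nat.card_le_card_of_injective (fun r : R' => ((r : D) : D ⧸ M₁)) fun r r' hrr => ?_
    have hm : ((r : D)⁻¹ * (r' : D) : D) ∈ M₁ := QuotientGroup.eq.1 hrr
    set g : G := (((r : D)⁻¹ * (r' : D) : D) : G) with hgdef
    have hgN : g ∈ Subgroup.normalizer (A : Set G) := hm
    have hgR : g ∈ R := R.mul_mem (R.inv_mem r.2) r'.2
    have hmem : g * u * g⁻¹ * u⁻¹ ∈ R ⊓ A :=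
      ⟨by
        rw [show g * u * g⁻¹ * u⁻¹ = g * (u * g⁻¹ * u⁻¹) by group]
        exact R.mul_mem hgR (S.hRn.conj_mem _ (R.inv_mem hgR) u),
        A.mul_mem ((Subgroup.mem_normalizer_iff.1 hgN u).1 huA) (A.inv_mem huA)⟩
    rw [S.R_inf_A, Subgroup.mem_bot, mul_inv_eq_one] at hmem
    have hgA : g ∈ A := S.hTI u huA hu1 ▸ mem_C.2 (mul_inv_eq_iff_eq_mul.1 hmem)
    have hg1 : g = 1 := Subgroup.mem_bot.1 (S.R_inf_A ▸ (⟨hgR, hgA⟩ : g ∈ R ⊓ A))
    exact Subtype.ext (inv_mul_eq_one.1 (Subtype.ext hg1 : (r : D)⁻¹ * (r' : D) = 1))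
  have hA'M1 : A' ≤ M₁ := fun g hg => Subgroup.le_normalizer (H := A) hg
  -- a prime whose full part divides `b`
  by_cases hgood : ∃ r : ℕ, r.Prime ∧ r ∣ Nat.card D ∧ ¬ r ∣ c ∧
      r ^ (Nat.card G).factorization r ∣ b
  · obtain ⟨r, hr, hrD, hrc, hrb⟩ := hgood
    haveI := Fact.mk hr
    obtain ⟨U⟩ : Nonempty (Sylow r D) := inferInstance
    set C' := Subgroup.centralizer ((U : Subgroup D) : Set D) with hC'
    set M₂ := Subgroup.normalizer ((U : Subgroup D) : Set D) with hM₂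
    have hC'M₂ : C' ≤ M₂ := Subgroup.centralizer_le_normalizer _
    have hC'ne : C' ≠ M₂ := fun e => htransfer r U hrD e.ge
    have hM₂C : M₂ ≤ Subgroup.normalizer (C' : Set D) := by
      intro g hg
      refine Subgroup.mem_normalizer_iff.2 fun v => ?_
      rw [Subgroup.mem_centralizer_iff, Subgroup.mem_centralizer_iff]
      constructor
      · intro hv w hw
        have hw' := (Subgroup.mem_normalizer_iff.1 (inv_mem hg) w).1 hw
        rw [inv_inv] at hw'
        calc w * (g * v * g⁻¹) = g * ((g⁻¹ * w * g) * v) * g⁻¹ := by group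
          _ = g * (v * (g⁻¹ * w * g)) * g⁻¹ := by rw [hv _ hw']
          _ = _ := by group
      · intro hv w hw
        have hw' := (Subgroup.mem_normalizer_iff.1 hg w).1 hw
        calc w * v = g⁻¹ * ((g * w * g⁻¹) * (g * v * g⁻¹)) * g := by group
          _ = g⁻¹ * ((g * v * g⁻¹) * (g * w * g⁻¹)) * g := by rw [hv _ hw']
          _ = _ := by group
    have hcover : (Set.univ : Set D) ⊆ ((R' : Set D) ∪
        {y : D | y ≠ 1 ∧ ∃ g : D, g⁻¹ * y * g ∈ A'}) ∪
          {y : D | y ≠ 1 ∧ ∃ g : D, g⁻¹ * y * g ∈ C'} := by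
      intro y _
      by_cases hyR : (y : G) ∈ R
      · exact Or.inl (Or.inl hyR)
      have hy1 : y ≠ 1 := fun e => hyR (by rw [e]; exact one_mem R)
      rcases S.cover hyR with hb | ⟨k, hk⟩
      · obtain ⟨Pr, hPr⟩ := exists_sylow_le_of_full (r := r) C((y : G)) (by
          rw [show Nat.card C((y : G)) = b from hb]; exact hrb)
        obtain ⟨U', hU'⟩ := exists_sylow_in_normal D Pr
        obtain ⟨d, hd⟩ := MulAction.exists_smul_eq D U U'
        refine Or.inr ⟨hy1, d, Subgroup.mem_centralizer_iff.2 fun w hw => ?_⟩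
        have hw' : d * w * d⁻¹ ∈ (U' : Subgroup D) := by
          rw [← hd, Sylow.coe_subgroup_smul]
          exact Subgroup.smul_mem_pointwise_smul w (MulAut.conj d) _ hw
        have hcm : (d * w * d⁻¹) * y = y * (d * w * d⁻¹) :=
          Subtype.ext (mem_C.1 (hPr (hU' ⟨_, hw', rfl⟩))).eq
        calc w * (d⁻¹ * y * d) = d⁻¹ * ((d * w * d⁻¹) * y) * d := by group
          _ = d⁻¹ * (y * (d * w * d⁻¹)) * d := by rw [hcm]
          _ = _ := by group
      · obtain ⟨d, hd, f, hf, rfl⟩ := hfrat k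
        refine Or.inl (Or.inr ⟨hy1, ⟨d, hd⟩, ?_⟩)
        have := (Subgroup.mem_normalizer_iff.1 hf _).1 hk
        show d⁻¹ * (y : G) * d ∈ A
        simpa [mul_assoc] using this
    have h0 := Set.ncard_le_ncard hcover
    rw [Set.ncard_univ] at h0
    have h1 : Nat.card D ≤ Nat.card R' + M₁.index * (Nat.card A' - 1) +
        M₂.index * (Nat.card C' - 1) := by
      refine h0.trans ((Set.ncard_union_le _ _).trans (Nat.add_le_add
        ((Set.ncard_union_le _ _).trans (Nat.add_le_add ?_ (ncard_conj_le A' M₁ ?_)))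
        (ncard_conj_le C' M₂ hM₂C)))
      · rw [← Nat.card_coe_set_eq]; rfl
      · intro g hg
        refine Subgroup.mem_normalizer_iff.2 fun v => ?_
        exact Subgroup.mem_normalizer_iff.1 (hg : (g : G) ∈ Subgroup.normalizer (A : Set G)) v
    have h2 : 2 * (M₁.index * Nat.card A') ≤ Nat.card D := by
      rw [← M₁.index_mul_card, mul_left_comm]
      exact Nat.mul_le_mul_left _ (two_mul_card_le hA'M1 hA'M)
    have h3 : 2 * (M₂.index * Nat.card C') ≤ Nat.card D := by
      rw [← M₂.index_mul_card, mul_left_comm]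
      exact Nat.mul_le_mul_left _ (two_mul_card_le hC'M₂ hC'ne)
    rw [Nat.mul_sub, Nat.mul_sub, mul_one, mul_one] at h1
    have h4 := Nat.le_mul_of_pos_right M₁.index (Nat.card_pos (α := A'))
    have h5 := Nat.le_mul_of_pos_right M₂.index (Nat.card_pos (α := C'))
    have h6 : 0 < M₂.index := Nat.pos_of_ne_zero Subgroup.index_ne_zero_of_finite
    omega
  push Not at hgood
  -- an element of the radical centralising it, for each remaining prime
  have hget : ∀ r : ℕ, r.Prime → r ∣ Nat.card D → ¬ r ∣ c → ∃ y : G, orderOf y = r ∧ y ∈ R ∧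
      cord y = a ∧ R ≤ C(y) ∧ c + 1 ≤ r ^ (Nat.card R).factorization r := by
    intro r hr hrD hrc
    haveI := Fact.mk hr
    have hrG : r ∣ Nat.card G := hrD.trans D.card_subgroup_dvd_card
    obtain ⟨Pr⟩ : Nonempty (Sylow r G) := inferInstance
    obtain ⟨y, hyP, hyo, hyC⟩ := exists_central_prime Pr hrG
    have hy1 : y ≠ 1 := fun e => hr.one_lt.ne' (by rw [← hyo, e, orderOf_one])
    have hfull : r ^ (Nat.card G).factorization r ∣ cord y := by
      rw [← Pr.card_eq_multiplicity]; exact Subgroup.card_dvd_of_le hyC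
    have hv0 : (Nat.card G).factorization r ≠ 0 := fun h0 =>
      hgood r hr hrD hrc (by rw [h0, pow_zero]; exact one_dvd b)
    have hya : cord y = a := by
      rcases S.conf.hall y hy1 with e | e | e
      · exact e
      · exact absurd (e ▸ hfull) (hgood r hr hrD hrc)
      · exact absurd ((dvd_pow_self r hv0).trans (e ▸ hfull)) hrc
    have hyR := S.mem_R_of_a hya
    haveI := S.R_nilpotent
    obtain ⟨T⟩ : Nonempty (Sylow r R) := inferInstance
    haveI hTn : (T : Subgroup R).Normal :=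
      T.normal_of_normalizerCondition Group.normalizerCondition_of_isNilpotent
    haveI : (T : Subgroup R).Characteristic := T.characteristic_of_normal hTn
    haveI hTG : ((T : Subgroup R).map R.subtype).Normal := inferInstance
    have hTPr : (T : Subgroup R).map R.subtype ≤ (Pr : Subgroup G) := by
      obtain ⟨P₁, hP₁⟩ := (T.isPGroup'.map R.subtype).exists_le_sylow
      obtain ⟨k, hk⟩ := MulAction.exists_smul_eq G P₁ Pr
      intro t ht
      rw [← hk, Sylow.coe_subgroup_smul, Subgroup.mem_pointwise_smul_iff_inv_smul_mem]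
      refine hP₁ ?_
      simpa [MulAut.smul_def] using hTG.conj_mem t ht k⁻¹
    have hRC : R ≤ C(y) := by
      refine le_of_primes fun l hl _ g hg ⟨i, hi⟩ => ?_
      by_cases hlr : l = r
      · refine hyC (hTPr ⟨⟨g, hg⟩, ?_, rfl⟩)
        have hgp : IsPGroup r (Subgroup.zpowers (⟨g, hg⟩ : R)) := IsPGroup.of_card (n := i) (by
          rw [Nat.card_zpowers, Subgroup.orderOf_mk, hi, hlr])
        obtain ⟨T', hT'⟩ := hgp.exists_le_sylow
        haveI : Unique (Sylow r R) := T.unique_of_normal hTn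
        exact Subsingleton.elim T' T ▸ hT' (Subgroup.mem_zpowers _)
      · haveI := Fact.mk hl
        have hgp : IsPGroup l (Subgroup.zpowers (⟨g, hg⟩ : R)) := IsPGroup.of_card (n := i) (by
          rw [Nat.card_zpowers, Subgroup.orderOf_mk, hi])
        obtain ⟨L, hL⟩ := hgp.exists_le_sylow
        haveI hLn : (L : Subgroup R).Normal :=
          L.normal_of_normalizerCondition Group.normalizerCondition_of_isNilpotent
        have hyp : IsPGroup r (Subgroup.zpowers (⟨y, hyR⟩ : R)) := IsPGroup.of_card (n := 1) (by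
          rw [Nat.card_zpowers, Subgroup.orderOf_mk, hyo, pow_one])
        obtain ⟨T', hT'⟩ := hyp.exists_le_sylow
        haveI : Unique (Sylow r R) := T.unique_of_normal hTn
        have hyT : (⟨y, hyR⟩ : R) ∈ (T : Subgroup R) :=
          Subsingleton.elim T' T ▸ hT' (Subgroup.mem_zpowers _)
        exact mem_C.2 (congrArg (fun t : R => (t : G)) (Subgroup.commute_of_normal_of_disjoint _ _
          hLn hTn (IsPGroup.disjoint_of_ne l r hlr _ _ L.isPGroup' T.isPGroup') _ _
          (hL (Subgroup.mem_zpowers _)) hyT).eq)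
    refine ⟨y, hyo, hyR, hya, hRC, ?_⟩
    have hfpf := S.fpf (M := (T : Subgroup R).map R.subtype) (le_bot_iff.1
      ((inf_le_inf_right A (Subgroup.map_subtype_le _)).trans S.R_inf_A.le))
    have hd := hfpf.card_dvd
    rw [S.hAc, Subgroup.card_subtype, T.card_eq_multiplicity] at hd
    have hpos : 1 < r ^ (Nat.card R).factorization r := by
      refine Nat.one_lt_pow (fun h0 => ?_) hr.one_lt
      have := (hr.dvd_iff_one_le_factorization Nat.card_pos.ne').1
        (hyo ▸ R.orderOf_dvd_natCard hyR)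
      omega
    have := Nat.le_of_dvd (by omega) hd
    omega
  by_cases htwo : ∃ r s : ℕ, r.Prime ∧ s.Prime ∧ r ≠ s ∧ r ∣ Nat.card D ∧ s ∣ Nat.card D ∧
      ¬ r ∣ c ∧ ¬ s ∣ c
  swap
  · push Not at htwo
    obtain ⟨r, hr, hrall⟩ : ∃ r : ℕ, r.Prime ∧ ∀ l : ℕ, l.Prime → l ∣ Nat.card D → ¬ l ∣ c →
        l = r := by
      by_cases hex : ∃ r : ℕ, r.Prime ∧ r ∣ Nat.card D ∧ ¬ r ∣ c
      · obtain ⟨r, hr, h1, h2⟩ := hex
        exact ⟨r, hr, fun l hl hl1 hl2 => by_contra fun hne => h2 (htwo l r hl hr hne hl1 h1 hl2)⟩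
      · push Not at hex
        exact ⟨2, Nat.prime_two, fun l hl h1 h2 => absurd (hex l hl h1) h2⟩
    haveI := Fact.mk hr
    obtain ⟨U⟩ : Nonempty (Sylow r D) := inferInstance
    have hl : (Nat.card A').lcm (Nat.card (U : Subgroup D)) = Nat.card D := by
      refine Nat.dvd_antisymm (Nat.lcm_dvd A'.card_subgroup_dvd_card
        (U : Subgroup D).card_subgroup_dvd_card)
        ((Nat.dvd_iff_prime_pow_dvd_dvd _ _).2 fun l n hlp hn => ?_)
      rcases eq_or_ne n 0 with rfl | hn0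
      · simp
      haveI := Fact.mk hlp
      by_cases hlc : l ∣ c
      · obtain ⟨Pl, hPl⟩ := S.exists_sylow_le hlc
        obtain ⟨L, hL⟩ := exists_sylow_in_normal D Pl
        refine (L.pow_dvd_card_of_pow_dvd_card hn).trans (dvd_trans ?_ (Nat.dvd_lcm_left _ _))
        exact Subgroup.card_dvd_of_le fun t ht => (hPl (hL ⟨t, ht, rfl⟩) : (t : G) ∈ A)
      · obtain rfl := hrall l hlp ((dvd_pow_self l hn0).trans hn) hlc
        exact (U.pow_dvd_card_of_pow_dvd_card hn).trans (Nat.dvd_lcm_right _ _)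
    haveI hA'c : IsMulCommutative A' := ⟨⟨fun p q => Subtype.ext (Subtype.ext
      (congrArg (fun t : A => (t : G)) (A_comm S.hTI ⟨((p : D) : G), p.2⟩ ⟨((q : D) : G), q.2⟩)))⟩⟩
    have hnilA : Group.IsNilpotent A' := by
      letI : CommGroup A' := { (inferInstance : Group A') with mul_comm := hA'c.is_comm.comm }
      exact CommGroup.isNilpotent
    by_cases hrc : r ∣ c
    · -- then every prime of `D` divides `c`
      have hle : Nat.card D ∣ Nat.card A' := by
        refine (Nat.dvd_iff_prime_pow_dvd_dvd _ _).2 fun l n hlp hn => ?_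
        rcases eq_or_ne n 0 with rfl | hn0
        · simp
        haveI := Fact.mk hlp
        have hlc : l ∣ c := by
          by_contra hlc
          exact hlc (hrall l hlp ((dvd_pow_self l hn0).trans hn) hlc ▸ hrc)
        obtain ⟨Pl, hPl⟩ := S.exists_sylow_le hlc
        obtain ⟨L, hL⟩ := exists_sylow_in_normal D Pl
        exact (L.pow_dvd_card_of_pow_dvd_card hn).trans
          (Subgroup.card_dvd_of_le fun t ht => (hPl (hL ⟨t, ht, rfl⟩) : (t : G) ∈ A))
      have htop : A' = ⊤ := Subgroup.eq_top_of_card_eq _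
        (Nat.dvd_antisymm A'.card_subgroup_dvd_card hle)
      exact hDns (Group.isSolvable_of_comm fun p q => congrArg Subtype.val
        (hA'c.is_comm.comm ⟨p, htop ▸ Subgroup.mem_top p⟩ ⟨q, htop ▸ Subgroup.mem_top q⟩))
    have hcop : (Nat.card A').Coprime (Nat.card (U : Subgroup D)) := by
      rw [U.card_eq_multiplicity]
      refine ((hr.coprime_iff_not_dvd.2 fun hd => hrc ?_).symm).pow_right _
      refine hd.trans (S.hAc ▸ Subgroup.card_dvd_of_injective
        (D.subtype.subgroupComap A) fun p q hpq => ?_)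
      exact Subtype.ext (Subtype.ext (congrArg (fun t : A => (t : G)) hpq))
    exact hDns (SolvStruct.KW.isSolvable_of_coprime_nilpotent _ rfl A' (U : Subgroup D) hnilA
      U.isPGroup'.isNilpotent hcop (factor A' (U : Subgroup D) hl).2)
  obtain ⟨r, s, hr, hs, hrs, hrD, hsD, hrc, hsc⟩ := htwo
  obtain ⟨y, hyo, hyR, hya, hyC, hyc⟩ := hget r hr hrD hrc
  obtain ⟨y', hy'o, hy'R, hy'a, hy'C, hy'c⟩ := hget s hs hsD hsc
  have hy1 : y ≠ 1 := fun e => hr.one_lt.ne' (by rw [← hyo, e, orderOf_one])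
  have hR2 : (c + 1) * (c + 1) ≤ Nat.card R := by
    refine (Nat.mul_le_mul hyc hy'c).trans (Nat.le_of_dvd Nat.card_pos ?_)
    exact (Nat.coprime_pow_primes _ _ hr hs hrs).mul_dvd_of_dvd_of_dvd (Nat.ordProj_dvd _ r)
      (Nat.ordProj_dvd _ s)
  have hco : ∀ g : G, (orderOf y).Coprime (orderOf (g * y' * g⁻¹)) := fun g => by
    rw [← MulAut.conj_apply, MulEquiv.orderOf_eq, hyo, hy'o]
    exact (Nat.coprime_primes hr hs).2 hrs
  obtain ⟨w, hw, hw1⟩ := (Subgroup.bot_or_exists_ne_one A).resolve_left S.A_ne_bot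
  have hpair : ∀ {x : G}, cord x = a → (C(x) ⊓ A = ⊥) ∧ ∀ g : G, ∃ p ∈ C(x), ∃ v ∈ A, g = p * v := by
    intro x hx
    obtain ⟨h1, h2⟩ := S.conf.pair hx (S.cord_of_mem hw hw1)
    rw [S.hTI w hw hw1] at h1 h2
    exact ⟨Subgroup.card_eq_one.1 (h1.trans S.hcop), h2⟩
  -- a conjugate of `y'` moved by `C(y)`
  obtain ⟨g₀, hg₀⟩ : ∃ g : G, Nat.card (C(y) ⊓ C(g * y' * g⁻¹) : Subgroup G) = b := by
    by_contra hno
    push Not at hno
    have heq : ∀ g : G, C(y) ≤ C(g * y' * g⁻¹) := by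
      intro g
      have hcm : Commute y (g * y' * g⁻¹) :=
        (mem_C.1 (hyC (S.hRn.conj_mem _ hy'R g))).symm
      have hm := C_mul_eq hcm (hco g)
      have hne : y * (g * y' * g⁻¹) ≠ 1 := fun e => hy1 (by
        have h' := hco g
        rw [eq_inv_of_mul_eq_one_right e, orderOf_inv, Nat.coprime_self] at h'
        exact orderOf_eq_one_iff.1 h')
      rcases S.conf.hall _ hne with e | e | e
      · have : C(y * (g * y' * g⁻¹)) = C(y) := Subgroup.eq_of_le_of_card_ge
          (hm.le.trans inf_le_left) (hya.trans e.symm).le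
        exact this.ge.trans (hm.le.trans inf_le_right)
      · exact absurd (hm ▸ e) (hno g)
      · exact absurd (e ▸ Subgroup.card_dvd_of_le (hm.le.trans inf_le_left) :
          c ∣ Nat.card C(y)) (fun hd => S.conf.not_c_dvd_a (hya ▸ hd))
    let K : Subgroup G := Subgroup.centralizer (Set.range fun g : G => g * y' * g⁻¹)
    have hyK : C(y) = K := by
      refine Subgroup.eq_of_le_of_card_ge (fun v hv => Subgroup.mem_centralizer_iff.2 ?_) ?_
      · rintro _ ⟨g, rfl⟩
        exact (mem_C.1 (heq g hv)).symm.eq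
      · rw [show Nat.card C(y) = a from hya, ← hy'a]
        refine Nat.le_of_dvd Nat.card_pos (Subgroup.card_dvd_of_le fun v hv => mem_C.2 ?_)
        exact (Subgroup.mem_centralizer_iff.1 hv y' ⟨1, by simp⟩).symm
    haveI : (C(y)).Normal := hyK ▸ ⟨fun v hv g => Subgroup.mem_centralizer_iff.2 (by
      rintro _ ⟨k, rfl⟩
      have := Subgroup.mem_centralizer_iff.1 hv _ ⟨g⁻¹ * k, rfl⟩
      calc k * y' * k⁻¹ * (g * v * g⁻¹) = g * ((g⁻¹ * k * y' * (g⁻¹ * k)⁻¹) * v) * g⁻¹ := by group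
        _ = g * (v * (g⁻¹ * k * y' * (g⁻¹ * k)⁻¹)) * g⁻¹ := by rw [this]
        _ = _ := by group)⟩
    obtain ⟨hinf, hfac⟩ := hpair hya
    have hnilA : Group.IsNilpotent A := by
      letI : CommGroup A := { (inferInstance : Group A) with mul_comm := A_comm S.hTI }
      exact CommGroup.isNilpotent
    exact S.conf.hns (SolvStruct.KW.isSolvable_of_coprime_nilpotent _ rfl C(y) A
      ((S.fpf (M := C(y)) hinf).isNilpotent S.A_ne_bot) hnilA
      (by rw [show Nat.card C(y) = a from hya, S.hAc]; exact S.hcop) hfac)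
  have hab : a ≤ c * b := by
    have h1 := Subgroup.index_inf_le (H := C(y)) (K := C(g₀ * y' * g₀⁻¹))
    rw [show C(y).index = c from S.idx_of_a hya,
      show C(g₀ * y' * g₀⁻¹).index = c from S.idx_of_a
        ((cord_eq_of_isConj (isConj_iff.2 ⟨g₀, rfl⟩ : IsConj y' (g₀ * y' * g₀⁻¹))).symm.trans hy'a)]
      at h1
    have h2 := (C(y) ⊓ C(g₀ * y' * g₀⁻¹)).index_mul_card
    rw [hg₀, S.hG] at h2
    have h3 : a * c ≤ c * c * b := h2 ▸ Nat.mul_le_mul_right b h1
    refine Nat.le_of_mul_le_mul_right ?_ (Nat.lt_trans zero_lt_one S.one_lt_c)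
    exact h3.trans (le_of_eq (by ring))
  -- an element of `N(A)` of prime order outside `A`
  obtain ⟨z, hzN, hzA, hz1⟩ : ∃ z ∈ Subgroup.normalizer (A : Set G), z ∉ A ∧ z ≠ 1 := by
    obtain ⟨z, h1, h2⟩ := SetLike.exists_of_lt
      (lt_of_le_of_ne (Subgroup.le_normalizer (H := A)) S.normalizer_ne)
    exact ⟨z, h1, h2, fun e => h2 (e ▸ one_mem A)⟩
  obtain ⟨l, hl, hld⟩ := Nat.exists_prime_and_dvd (fun e => hz1 (orderOf_eq_one_iff.1 e))
  have hzb0 := S.cord_out hzN hzA
  have hlb : l ∣ b := hld.trans (hzb0 ▸ Subgroup.orderOf_dvd_natCard C(z) (self_mem_C z))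
  set z₀ := z ^ (orderOf z / l)
  have hz₀o : orderOf z₀ = l := orderOf_pow_orderOf_div (orderOf_pos z).ne' hld
  have hlc : ¬ l ∣ c := fun h => hl.one_lt.ne'
    (Nat.eq_one_of_dvd_coprimes S.hcop (hlb.trans S.conf.hb) h)
  have hz₀A : z₀ ∉ A := fun h => hlc (by rw [← hz₀o, ← S.hAc]; exact A.orderOf_dvd_natCard h)
  have hz₀N : z₀ ∈ Subgroup.normalizer (A : Set G) := pow_mem hzN _
  have hz₀b := S.cord_out hz₀N hz₀A
  haveI := Fact.mk hl
  obtain ⟨k, hk⟩ := CfsgLib.CharApps.ClassSizes.exists_conj_mem (H := C(y)) (u := z₀) (e := 1) hl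
    (by rw [pow_one, hz₀o]) (by rw [show C(y).index = c from S.idx_of_a hya]; exact hlc)
  set y₁ := k * y * k⁻¹
  have hy₁a : cord y₁ = a :=
    (cord_eq_of_isConj (isConj_iff.2 ⟨k, rfl⟩ : IsConj y y₁)).symm.trans hya
  have hz₀y : z₀ ∈ C(y₁) := mem_C.2 (by
    show z₀ * (k * y * k⁻¹) = k * y * k⁻¹ * z₀
    calc z₀ * (k * y * k⁻¹) = k * ((k⁻¹ * z₀ * k) * y) * k⁻¹ := by group
      _ = k * (y * (k⁻¹ * z₀ * k)) * k⁻¹ := by rw [(mem_C.1 hk).eq]
      _ = _ := by group)
  obtain ⟨hinf₁, hfac₁⟩ := hpair hy₁a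
  have hCz : C(z₀) ≤ C(y₁) := by
    intro g hg
    obtain ⟨p, hp, v, hv, rfl⟩ := hfac₁ g
    have h1 : z₀ * (p * v) * z₀⁻¹ = p * v := mul_inv_eq_iff_eq_mul.2 (mem_C.1 hg).symm.eq
    have hp' : z₀ * p * z₀⁻¹ ∈ C(y₁) := C(y₁).mul_mem (C(y₁).mul_mem hz₀y hp) (C(y₁).inv_mem hz₀y)
    have hv' : z₀ * v * z₀⁻¹ ∈ A := (Subgroup.mem_normalizer_iff.1 hz₀N v).1 hv
    have h2 : p⁻¹ * (z₀ * p * z₀⁻¹) = v * (z₀ * v * z₀⁻¹)⁻¹ := by
      rw [eq_mul_inv_iff_mul_eq, mul_assoc, inv_mul_eq_iff_eq_mul]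
      conv_rhs => rw [← h1]
      group
    have h3 : v * (z₀ * v * z₀⁻¹)⁻¹ = 1 := Subgroup.mem_bot.1 (hinf₁ ▸
      (⟨h2 ▸ C(y₁).mul_mem (C(y₁).inv_mem hp) hp', A.mul_mem hv (A.inv_mem hv')⟩ :
        v * (z₀ * v * z₀⁻¹)⁻¹ ∈ C(y₁) ⊓ A))
    by_cases hv1 : v = 1
    · rw [hv1, mul_one]; exact hp
    · exact absurd (S.hTI v hv hv1 ▸ mem_C.2 (mul_inv_eq_iff_eq_mul.1 (mul_inv_eq_one.1 h3).symm))
        hz₀A
  have hRy : R ≤ C(y₁) := fun g hg => by
    have := mem_C.1 (hyC (S.hRn.conj_mem g hg k⁻¹))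
    rw [inv_inv] at this
    refine mem_C.2 ?_
    show g * (k * y * k⁻¹) = k * y * k⁻¹ * g
    calc g * (k * y * k⁻¹) = k * ((k⁻¹ * g * k) * y) * k⁻¹ := by group
      _ = k * (y * (k⁻¹ * g * k)) * k⁻¹ := by rw [this.eq]
      _ = _ := by group
  have h1 := card_mul_le hCz hRy
  rw [show Nat.card C(z₀) = b from hz₀b, show Nat.card C(y₁) = a from hy₁a] at h1
  set H : Subgroup G := C(z₀) ⊓ R with hH
  set H' : Subgroup G := C(w * z₀ * w⁻¹) ⊓ R with hH'
  have hHcard : Nat.card H' = Nat.card H := by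
    refine (Nat.card_congr ((MulAut.conj w).toEquiv.subtypeEquiv fun v => ?_)).symm
    show v ∈ H ↔ w * v * w⁻¹ ∈ H'
    rw [hH, hH', Subgroup.mem_inf, Subgroup.mem_inf, mem_C, mem_C]
    refine and_congr (Commute.conj_iff w).symm ⟨fun h => S.hRn.conj_mem v h w, fun h => ?_⟩
    simpa [mul_assoc] using S.hRn.conj_mem _ h w⁻¹
  have hinf : H ⊓ H' = ⊥ := by
    rw [Subgroup.eq_bot_iff_forall]
    intro v hv
    by_contra hv1
    have hc1 : Commute v z₀ := mem_C.1 hv.1.1
    have hc2 : Commute v (w * z₀ * w⁻¹) := mem_C.1 hv.2.1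
    have hcu : Commute v (z₀⁻¹ * w * z₀ * w⁻¹) := by
      simpa [mul_assoc] using hc1.inv_right.mul_right hc2
    have huA : z₀⁻¹ * w * z₀ * w⁻¹ ∈ A := A.mul_mem (by
      simpa using (Subgroup.mem_normalizer_iff.1 (inv_mem hz₀N) w).1 hw) (A.inv_mem hw)
    have hu : z₀⁻¹ * w * z₀ * w⁻¹ ≠ 1 := fun e => hz₀A (S.hTI w hw hw1 ▸ mem_C.2 (by
      show z₀ * w = w * z₀
      have := mul_inv_eq_one.1 e
      calc z₀ * w = z₀ * (z₀⁻¹ * w * z₀) := by rw [this]
        _ = _ := by group))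
    exact hv1 (Subgroup.mem_bot.1 (S.R_inf_A ▸
      (⟨hv.1.2, S.hTI _ huA hu ▸ mem_C.2 hcu⟩ : v ∈ R ⊓ A)))
  have h2 := card_mul_le (inf_le_right : H ≤ R) (inf_le_right : H' ≤ R)
  rw [hHcard, hinf, Subgroup.card_bot, mul_one] at h2
  have hb0 : 0 < b := hz₀b ▸ Nat.card_pos
  have h3 : Nat.card R ≤ c * Nat.card H := Nat.le_of_mul_le_mul_left
    (h1.trans ((Nat.mul_le_mul_right _ hab).trans (le_of_eq (by ring)))) hb0
  have h4 : Nat.card H ≤ c := by
    refine Nat.le_of_mul_le_mul_right (h2.trans h3) ?_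
    exact Nat.card_pos
  have h5 : Nat.card R ≤ c * c := h3.trans (Nat.mul_le_mul_left c h4)
  have : c * c < (c + 1) * (c + 1) := by ring_nf; omega
  omega

end Setup

end CfsgLib.FewSizes
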