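import Cfsg.Agent.Lib.FewSizes.Count
import Cfsg.Agent.Lib.ConjRankThree.Main
import Cfsg.Agent.Lib.PSL2.Congr
import Cfsg.Agent.S3922

/-!
# Trivial centre and at most three class sizes
-/

set_option autoImplicit false
set_option linter.style.haveILetI false

namespace CfsgLib.FewSizes

open CfsgLib.ConjRankThree CharApps.ClassSizes

universe u

variable {G : Type u} [Group G] [Finite G]

local notation "C(" g ")" => Subgroup.centralizer ({g} : Set G)

/-- There is no single nontrivial class size when the centre is trivial. -/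
theorem false_of_one_size (hZ : Subgroup.center G = ⊥) {m : ℕ}
    (h : ∀ g : G, g ≠ 1 → idx g = m) (hne : ∃ g : G, g ≠ 1) : False := by
  obtain ⟨g, hg⟩ := hne
  have hm : m ≠ 1 := fun e =>
    hg (Subgroup.mem_bot.1 (hZ ▸ idx_eq_one_iff.1 ((h g hg).trans e)))
  obtain ⟨p, hp, hpm⟩ := Nat.exists_prime_and_dvd hm
  have hpG : p ∣ Nat.card G := hpm.trans (h g hg ▸ C(g).index_dvd_card)
  obtain ⟨z, hzo, hz⟩ := exists_full_prime hp hpG
  have hz1 : z ≠ 1 := fun e => hp.one_lt.ne' (by rw [← hzo, e, orderOf_one])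
  exact not_full hp C(z).index_mul_card ((h z hz1).symm ▸ hpm : p ∣ idx z)
    (hz _ (Nat.ordProj_dvd _ p))

theorem classification (hZ : Subgroup.center G = ⊥)
    (h : Nat.card {n : ℕ | 1 < n ∧ ∃ x : G, C(x).index = n} ≤ 3) :
    Group.IsSolvable G ∨ ∃ a : ℕ, 0 < a ∧
      Nonempty (G ≃* Matrix.ProjectiveSpecialLinearGroup (Fin 2) (GaloisField 2 a)) := by
  classical
  haveI := Fact.mk Nat.prime_two
  by_cases hs : Group.IsSolvable G
  · exact Or.inl hs
  right
  have hnc : ∀ g : G, g ≠ 1 → g ∉ Subgroup.center G := fun g hg hc =>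
    hg (Subgroup.mem_bot.1 (hZ ▸ hc))
  have hset : {n : ℕ | 1 < n ∧ ∃ x : G, C(x).index = n} =
      {m : ℕ | ∃ x : G, x ∉ Subgroup.center G ∧ m = C(x).index} := by
    ext n
    constructor
    · rintro ⟨h1, x, rfl⟩
      exact ⟨x, fun hc => by
        have h2 : C(x).index = 1 := idx_eq_one_iff.2 hc
        omega, rfl⟩
    · rintro ⟨x, hx, rfl⟩
      refine ⟨?_, x, rfl⟩
      have h1 : 0 < C(x).index := idx_pos x
      have h2 : C(x).index ≠ 1 := fun e => hx (idx_eq_one_iff.1 e)
      omega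
  rw [Nat.card_coe_set_eq, hset] at h
  have hne : ∃ g : G, g ≠ 1 := by
    by_contra hno
    push Not at hno
    exact hs (Group.isSolvable_of_comm fun a b => by rw [hno a, hno b])
  set T := {m : ℕ | ∃ x : G, x ∉ Subgroup.center G ∧ m = C(x).index} with hT
  have hTfin : T.Finite := (Set.finite_range (fun x : G => C(x).index)).subset (by
    rintro m ⟨x, -, rfl⟩; exact ⟨x, rfl⟩)
  rcases Nat.lt_or_ge T.ncard 3 with h2 | h3
  · exfalso
    rcases Nat.lt_or_ge T.ncard 2 with h1 | h2'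
    · obtain ⟨g, hg⟩ := hne
      have hgT : idx g ∈ T := ⟨g, hnc g hg, rfl⟩
      refine false_of_one_size hZ (m := idx g) (fun k hk => ?_) ⟨g, hg⟩
      exact (Set.ncard_le_one_iff hTfin).1 (by omega) ⟨k, hnc k hk, rfl⟩ hgT
    · obtain ⟨m, n, hmn, hTe⟩ := Set.ncard_eq_two.1 (show T.ncard = 2 by omega)
      have hmT : m ∈ T := hTe ▸ by simp
      have hnT : n ∈ T := hTe ▸ by simp
      have hone : ∀ {k}, k ∈ T → 1 < k := fun {k} hk => by
        obtain ⟨x, hx, rfl⟩ := hk
        have h1 : 0 < C(x).index := idx_pos x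
        have h2 : C(x).index ≠ 1 := fun e => hx (idx_eq_one_iff.1 e)
        omega
      have hall : ∀ x : G, C(x).index = 1 ∨ C(x).index = m ∨ C(x).index = n := fun x => by
        by_cases hx : x ∈ Subgroup.center G
        · exact Or.inl (idx_eq_one_iff.2 hx)
        · have : C(x).index ∈ ({m, n} : Set ℕ) := hTe ▸ ⟨x, hx, rfl⟩
          simp only [Set.mem_insert_iff, Set.mem_singleton_iff] at this
          exact Or.inr this
      obtain ⟨xm, hxmc, hxm⟩ := hmT
      obtain ⟨xn, hxnc, hxn⟩ := hnT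
      rcases Nat.lt_or_ge m n with hlt | hge
      · exact hs (Cfsg.Agent.S3922.result n m hlt (hone ⟨xm, hxmc, hxm⟩) hall
          ⟨xn, hxn.symm⟩ ⟨xm, hxm.symm⟩)
      · exact hs (Cfsg.Agent.S3922.result m n (by omega) (hone ⟨xn, hxnc, hxn⟩)
          (fun x => (hall x).imp_right Or.symm) ⟨xm, hxm.symm⟩ ⟨xn, hxn.symm⟩)
  have h3' : Set.ncard {n : ℕ | ∃ x : G, x ∉ Subgroup.center G ∧ cord x = n} = 3 :=
    ncard_index_eq.symm.trans (le_antisymm h h3)
  obtain ⟨a, b, c, hab, hac, hbc, hO⟩ := Set.ncard_eq_three.1 h3'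
  have hall : ∀ g : G, g ≠ 1 → cord g = a ∨ cord g = b ∨ cord g = c := fun g hg => by
    have : cord g ∈ ({a, b, c} : Set ℕ) := hO ▸ ⟨g, hnc g hg, rfl⟩
    simpa using this
  have hex : ∀ o ∈ ({a, b, c} : Set ℕ), ∃ g : G, g ≠ 1 ∧ cord g = o := fun o ho => by
    rw [← hO] at ho
    obtain ⟨g, hg, he⟩ := ho
    exact ⟨g, fun e => hg (e ▸ Subgroup.one_mem _), he⟩
  have ha := hex a (by simp)
  have hb := hex b (by simp)
  have hc := hex c (by simp)
  have mk : ∀ {x y z : ℕ}, y ∣ x → y ≠ x → y ≠ z → x ≠ z →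
      (∀ g : G, g ≠ 1 → cord g = x ∨ cord g = y ∨ cord g = z) →
      (∃ g : G, g ≠ 1 ∧ cord g = x) → (∃ g : G, g ≠ 1 ∧ cord g = z) →
      (∃ g : G, g ≠ 1 ∧ cord g = y) → False := by
    intro x y z h1 h2 h3 h4 h5 h6 h7 h8
    obtain ⟨A, R, S⟩ := exists_setup (G := G) ⟨hZ, hs, h1, h2, h3, h4, h5, h6, h7, h8⟩
    exact S.false_of_setup
  by_cases hdiv : a ∣ b ∨ a ∣ c ∨ b ∣ a ∨ b ∣ c ∨ c ∣ a ∨ c ∣ b
  · exfalso
    rcases hdiv with h | h | h | h | h | h
    · exact mk h hab hac hbc (fun g hg => by have := hall g hg; tauto) hb hc ha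
    · exact mk h hac hab hbc.symm (fun g hg => by have := hall g hg; tauto) hc hb ha
    · exact mk h hab.symm hbc hac (fun g hg => by have := hall g hg; tauto) ha hc hb
    · exact mk h hbc hab.symm hac.symm (fun g hg => by have := hall g hg; tauto) hc ha hb
    · exact mk h hac.symm hbc.symm hab (fun g hg => by have := hall g hg; tauto) ha hb hc
    · exact mk h hbc.symm hac.symm hab.symm (fun g hg => by have := hall g hg; tauto) hb ha hc
  have hrig : ∀ u : G, u ≠ 1 → Rigid u := fun u hu => rigid_of_antichain hu fun v hv hdv => by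
    rcases hall u hu with e | e | e <;> rcases hall v hv with e' | e' | e' <;>
      rw [e, e'] at hdv ⊢ <;> tauto
  have heven : Even (Nat.card G) := by
    rcases Nat.even_or_odd (Nat.card G) with h | h
    · exact h
    · exact absurd (FT.isSolvable_of_odd h) hs
  rcases Cfsg.Agent.S2202.result heven (fun t ht => comm_of_all_rigid hrig ht) with
    hP | hP | ⟨F, _, _, B, _, _, hF, -, ⟨e⟩⟩
  · obtain ⟨P⟩ : Nonempty (Sylow 2 G) := inferInstance
    exact absurd (FgsD.ThreeSizes.isSolvable_of_cyclic_sylow_two heven.two_dvd P (hP P)) hs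
  · obtain ⟨P⟩ : Nonempty (Sylow 2 G) := inferInstance
    exact absurd (FgsD.ThreeSizes.isSolvable_of_normal_sylow_two P (hP P)) hs
  haveI := hF
  haveI : Subsingleton B := by
    refine ⟨fun p q => ?_⟩
    have key : ∀ p : B, p = 1 := fun p => by
      have hc : e.symm (1, p) ∈ Subgroup.center G := Subgroup.mem_center_iff.2 fun g => by
        apply e.injective
        rw [map_mul, map_mul, e.apply_symm_apply]
        exact Prod.ext (by simp) (mul_comm _ _)
      rw [hZ, Subgroup.mem_bot] at hc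
      have := congrArg e hc
      rw [e.apply_symm_apply, map_one] at this
      exact (Prod.ext_iff.1 this).2
    rw [key p, key q]
  haveI : Unique B := uniqueOfSubsingleton 1
  obtain ⟨m, -, hm⟩ := FiniteField.card F 2
  haveI : Fintype (GaloisField 2 (m : ℕ)) := Fintype.ofFinite _
  have hcard : Fintype.card F = Fintype.card (GaloisField 2 (m : ℕ)) := by
    rw [hm, ← Nat.card_eq_fintype_card, GaloisField.card 2 _ m.ne_zero]
  obtain ⟨e'⟩ := PSL2.nonempty_psl_congr (n := Fin 2) (FiniteField.ringEquivOfCardEq hcard)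
  exact ⟨m, m.2, ⟨((e.trans MulEquiv.prodUnique).trans ConjRankThree.slEquivPSL).trans e'⟩⟩

end CfsgLib.FewSizes
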