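import Cfsg.Agent.Lib.FewSizes.Rigid

/-!
# The trivial intersection Hall subgroup and the soluble radical
-/

set_option autoImplicit false
set_option linter.style.haveILetI false

namespace CfsgLib.FewSizes

open CfsgLib.ConjRankThree CharApps.ClassSizes
open scoped Pointwise

universe u

variable {G : Type u} [Group G] [Finite G]

local notation "C(" g ")" => Subgroup.centralizer ({g} : Set G)

/-- The configuration with its Hall subgroup `A` and soluble radical `R`. -/
structure Setup (G : Type u) [Group G] (a b c : ℕ) (A R : Subgroup G) : Prop where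
  conf : Conf G a b c
  hTI : ∀ u ∈ A, u ≠ 1 → Subgroup.centralizer ({u} : Set G) = A
  hAc : Nat.card A = c
  hcop : a.Coprime c
  hG : Nat.card G = a * c
  hRn : R.Normal
  hRs : Group.IsSolvable R
  hmax : ∀ M : Subgroup G, M.Normal → Group.IsSolvable M → M ≤ R

theorem exists_setup {a b c : ℕ} (h : Conf G a b c) : ∃ A R : Subgroup G, Setup G a b c A R := by
  obtain ⟨w₀, hw₀, hw₀c⟩ := h.hwc
  obtain ⟨w, q, hw1, hq, hwq, hwc⟩ := h.exists_prime_of_cord hw₀ hw₀c fun k hk hck => by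
    rcases hk with rfl | rfl | rfl
    · exact absurd hck h.not_c_dvd_a
    · exact absurd hck h.not_c_dvd_b
    · rfl
  haveI := Fact.mk hq
  have hr := h.rigid hw1 hwc
  haveI hcomm : IsMulCommutative C(w) :=
    (comm_or_isPGroup hq hwq hr).elim id (h.comm_of_pGroup hw1 hwc)
  have hTI : ∀ u ∈ C(w), u ≠ 1 → C(u) = C(w) := fun u hu hu1 =>
    hr.2.1 u hu1 fun g hg => mem_C.2
      (congrArg Subtype.val (hcomm.is_comm.comm ⟨g, hg⟩ ⟨u, hu⟩))
  obtain ⟨x, hx1, hxa⟩ := h.hxa
  have hinf : C(x) ⊓ C(w) = ⊥ := (Subgroup.eq_bot_iff_forall _).2 fun u hu => by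
    by_contra hu1
    have hxw : x ∈ C(w) := hTI u hu.2 hu1 ▸ mem_C.2 (mem_C.1 hu.1).symm
    exact h.hac (hxa.symm.trans
      ((congrArg (fun H : Subgroup G => Nat.card H) (hTI x hxw hx1)).trans hwc))
  have hgcd : a.gcd c = 1 := by rw [← (h.pair hxa hwc).1, hinf, Subgroup.card_bot]
  obtain ⟨R, hRn, hRs, hmax⟩ := exists_radical (G := G)
  exact ⟨C(w), R, h, hTI, hwc, hgcd, by rw [← h.lcm_eq, ← Nat.gcd_mul_lcm a c, hgcd, one_mul],
    hRn, hRs, hmax⟩

namespace Setup

variable {a b c : ℕ} {A R : Subgroup G} (S : Setup G a b c A R)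
include S

theorem a_pos : 0 < a := by
  obtain ⟨x, -, hx⟩ := S.conf.hxa
  exact hx ▸ Nat.card_pos

theorem one_lt_c : 1 < c := by
  obtain ⟨w, hw, hwc⟩ := S.conf.hwc
  exact hwc ▸ S.conf.one_lt_cord hw

theorem A_ne_bot : A ≠ ⊥ := fun h => by
  have := S.one_lt_c
  rw [← S.hAc, h, Subgroup.card_bot] at this
  omega

omit [Finite G] in
theorem cord_of_mem {u : G} (hu : u ∈ A) (hu1 : u ≠ 1) : cord u = c :=
  (congrArg (fun H : Subgroup G => Nat.card H) (S.hTI u hu hu1)).trans S.hAc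

theorem index_A : A.index = a :=
  Nat.eq_of_mul_eq_mul_right (Nat.card_pos (α := A)) (by rw [A.index_mul_card, S.hG, S.hAc])

theorem idx_of_a {g : G} (hg : cord g = a) : idx g = c :=
  Nat.eq_of_mul_eq_mul_right S.a_pos (by
    rw [mul_comm c, ← S.hG, ← hg]; exact C(g).index_mul_card)

theorem idx_of_c {g : G} (hg : cord g = c) : idx g = a :=
  Nat.eq_of_mul_eq_mul_right (Nat.lt_trans zero_lt_one S.one_lt_c)
    (by rw [← S.hG, ← hg]; exact C(g).index_mul_card)

theorem exists_sylow_le {q : ℕ} [Fact q.Prime] (hqc : q ∣ c) :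
    ∃ P : Sylow q G, (P : Subgroup G) ≤ A := by
  have hq : q.Prime := Fact.out
  obtain ⟨T⟩ : Nonempty (Sylow q A) := inferInstance
  have hT : Nat.card ((T : Subgroup A).map A.subtype) = q ^ (Nat.card G).factorization q := by
    rw [Subgroup.card_subtype, T.card_eq_multiplicity, S.hG,
      Nat.factorization_mul S.a_pos.ne' (by have := S.one_lt_c; omega), Finsupp.add_apply,
      Nat.factorization_eq_zero_of_not_dvd (n := a) (fun hqa => hq.one_lt.ne'
        (Nat.eq_one_of_dvd_coprimes S.hcop hqa hqc)), zero_add, S.hAc]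
  exact ⟨Sylow.ofCard _ hT, Subgroup.map_subtype_le _⟩

/-- Elements of centraliser order `c` are conjugate into `A`. -/
theorem exists_conj {g : G} (hg : g ≠ 1) (hgc : cord g = c) : ∃ k : G, k⁻¹ * g * k ∈ A := by
  obtain ⟨q, hq, hqd⟩ := Nat.exists_prime_and_dvd (fun e => hg (orderOf_eq_one_iff.1 e))
  have ho := orderOf_pow_orderOf_div (orderOf_pos g).ne' hqd
  set z := g ^ (orderOf g / q)
  have hz1 : z ≠ 1 := fun e => hq.one_lt.ne' (by rw [← ho, e, orderOf_one])
  have hCz : C(z) = C(g) := (S.conf.rigid hg hgc).2.1 z hz1 (C_le_C_pow g _)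
  have hqc : q ∣ c := hqd.trans (hgc ▸ Subgroup.orderOf_dvd_natCard C(g) (self_mem_C g))
  obtain ⟨k, hk⟩ := CfsgLib.CharApps.ClassSizes.exists_conj_mem (H := A) (u := z) (e := 1) hq (by rw [pow_one, ho])
    (fun hd => hq.one_lt.ne' (Nat.eq_one_of_dvd_coprimes S.hcop (S.index_A ▸ hd) hqc))
  have hk1 : k⁻¹ * z * k ≠ 1 := fun e => hz1 (by
    calc z = k * (k⁻¹ * z * k) * k⁻¹ := by group
      _ = 1 := by rw [e]; group)
  refine ⟨k, ?_⟩
  rw [← S.hTI _ hk hk1, mem_C]
  have hgz : Commute g z := (mem_C.1 (hCz.symm ▸ self_mem_C g))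
  show k⁻¹ * g * k * (k⁻¹ * z * k) = k⁻¹ * z * k * (k⁻¹ * g * k)
  calc k⁻¹ * g * k * (k⁻¹ * z * k) = k⁻¹ * (g * z) * k := by group
    _ = k⁻¹ * (z * g) * k := by rw [hgz.eq]
    _ = _ := by group

theorem not_normal : ¬ A.Normal := fun hn => by
  haveI := hn
  exact S.conf.not_normal S.hTI S.hAc S.index_A S.hcop

omit [Finite G] in
/-- A normal subgroup meeting `A` trivially is acted on without fixed points. -/
theorem fpf {M : Subgroup G} [hM : M.Normal] (hMA : M ⊓ A = ⊥) : Base.IsFPF A M :=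
  ⟨by rw [Subgroup.normalizer_eq_top_iff.2 hM]; exact le_top,
    fun u hu hu1 => by rw [S.hTI u hu hu1]; exact hMA⟩

theorem abelian_inf_A {V : Subgroup G} (hVn : V.Normal) (hVc : ∀ u ∈ V, ∀ v ∈ V, Commute u v) :
    V ⊓ A = ⊥ := by
  rw [Subgroup.eq_bot_iff_forall]
  intro v hv
  by_contra hv1
  have hVA : V ≤ A := fun u hu => S.hTI v hv.2 hv1 ▸ mem_C.2 (hVc u hu v hv.1)
  exact S.not_normal (Subgroup.normalizer_eq_top_iff.1 (top_le_iff.1 fun g _ =>
    mem_normalizer_of_fusion S.hTI hv.2 hv1 (hVA (by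
      simpa using hVn.conj_mem v hv.1 g⁻¹))))

theorem normalizer_ne : A ≠ Subgroup.normalizer (A : Set G) := by
  intro hAN
  have hinf : commutator G ⊓ A = ⊥ := by
    rw [Subgroup.eq_bot_iff_forall]
    intro u hu
    by_contra hu1
    obtain ⟨q, hq, hqd⟩ := Nat.exists_prime_and_dvd (fun e => hu1 (orderOf_eq_one_iff.1 e))
    haveI := Fact.mk hq
    have hqc : q ∣ c := hqd.trans (S.hAc ▸ A.orderOf_dvd_natCard hu.2)
    obtain ⟨P, hPA⟩ := S.exists_sylow_le hqc
    obtain ⟨v, hv, hv1⟩ := (Subgroup.bot_or_exists_ne_one (P : Subgroup G)).resolve_left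
      (P.ne_bot_of_dvd_card (hqc.trans (S.hAc ▸ A.card_subgroup_dvd_card)))
    obtain ⟨K, -, hK, hKq, -⟩ := commutator_le_of_transfer P fun g hg => by
      have hgA : g ∈ A := hAN.symm ▸ mem_normalizer_of_fusion S.hTI (hPA hv) hv1
        (hPA (by simpa using (Subgroup.mem_normalizer_iff.1 (inv_mem hg) v).1 hv))
      exact Subgroup.mem_centralizer_iff.2 fun y hy =>
        congrArg Subtype.val (A_comm S.hTI ⟨y, hPA hy⟩ ⟨g, hgA⟩)
    exact hKq (hqd.trans (K.orderOf_dvd_natCard (hK hu.1)))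
  haveI := (S.fpf (M := commutator G) hinf).isNilpotent S.A_ne_bot
  haveI : Group.IsSolvable (G ⧸ commutator G) :=
    Group.isSolvable_of_comm (Abelianization.commGroup G).mul_comm
  exact S.conf.hns ((Group.isSolvable_iff_subgroup_quotient (commutator G)).2
    ⟨inferInstance, inferInstance⟩)

theorem R_inf_A : R ⊓ A = ⊥ := by
  haveI := S.hRn
  rw [Subgroup.eq_bot_iff_forall]
  intro u hu
  by_contra hu1
  obtain ⟨V, hVn, -, hV, hVc⟩ := exists_comm_normal S.hRs fun h =>
    hu1 (Subgroup.mem_bot.1 (h ▸ hu.1))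
  haveI := hVn
  have hfpf := S.fpf (M := V) (S.abelian_inf_A hVn hVc)
  haveI : IsMulCommutative A := ⟨⟨A_comm S.hTI⟩⟩
  haveI : IsCyclic A := by
    haveI : IsZGroup A := ⟨fun p hp P => by
      haveI := Fact.mk hp
      refine (Base.IsFPF.isCyclic_or_quaternion hfpf hV (P : Subgroup A) P.isPGroup').resolve_right ?_
      rintro ⟨-, n, hn, ⟨e⟩⟩
      haveI : NeZero (2 ^ n) := ⟨pow_ne_zero n two_ne_zero⟩
      have h1 := congrArg e.symm (show (QuaternionGroup.xa 0 : QuaternionGroup (2 ^ n)) * .a 1 =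
        .xa 1 by simp)
      have h2 : e.symm (.xa 0) * e.symm (.a 1) = e.symm (.a 1) * e.symm (.xa 0) :=
        Subtype.ext (A_comm S.hTI _ _)
      rw [map_mul, h2, ← map_mul, e.symm.injective.eq_iff, QuaternionGroup.a_mul_xa,
        QuaternionGroup.xa.injEq] at h1
      have h4 : ((2 : ℕ) : ZMod (2 * 2 ^ n)) = 0 := by
        linear_combination -h1
      have h5 := Nat.le_of_dvd (by norm_num) ((ZMod.natCast_eq_zero_iff _ _).1 h4)
      have : 2 ≤ 2 ^ n := Nat.le_self_pow (by omega) 2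
      omega⟩
    letI : CommGroup A := { (inferInstance : Group A) with mul_comm := A_comm S.hTI }
    haveI : Group.IsNilpotent A := CommGroup.isNilpotent (G := A)
    infer_instance
  set N : Subgroup G := Subgroup.normalizer (A : Set G) with hN
  obtain ⟨⟨z, hz⟩, hgen⟩ := IsCyclic.exists_generator (α := A)
  have hz1 : z ≠ 1 := by
    intro e
    refine S.A_ne_bot ((Subgroup.eq_bot_iff_forall _).2 fun v hv => ?_)
    obtain ⟨i, hi⟩ := hgen ⟨v, hv⟩
    have := congrArg Subtype.val hi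
    simp [e] at this
    exact this.symm
  have hcom : ∀ g k : G, g ∈ N → k ∈ N → (k * g)⁻¹ * (g * k) ∈ A := by
    intro g k hg hk
    obtain ⟨i, hi⟩ := hgen ⟨g * z * g⁻¹, (Subgroup.mem_normalizer_iff.1 hg z).1 hz⟩
    obtain ⟨l, hl⟩ := hgen ⟨k * z * k⁻¹, (Subgroup.mem_normalizer_iff.1 hk z).1 hz⟩
    have hi' : g * z * g⁻¹ = z ^ i := (congrArg Subtype.val hi).symm
    have hl' : k * z * k⁻¹ = z ^ l := (congrArg Subtype.val hl).symm
    have h1 : g * k * z * (g * k)⁻¹ = z ^ (i * l) := by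
      calc g * k * z * (g * k)⁻¹ = g * (k * z * k⁻¹) * g⁻¹ := by group
        _ = z ^ (i * l) := by rw [hl', ← conj_zpow, hi', ← zpow_mul]
    have h2 : k * g * z * (k * g)⁻¹ = z ^ (i * l) := by
      calc k * g * z * (k * g)⁻¹ = k * (g * z * g⁻¹) * k⁻¹ := by group
        _ = z ^ (i * l) := by rw [hi', ← conj_zpow, hl', ← zpow_mul, mul_comm]
    rw [← S.hTI z hz hz1]
    refine mem_C.2 ?_
    show (k * g)⁻¹ * (g * k) * z = z * ((k * g)⁻¹ * (g * k))
    calc (k * g)⁻¹ * (g * k) * z = (k * g)⁻¹ * (g * k * z * (g * k)⁻¹) * (g * k) := by group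
      _ = (k * g)⁻¹ * (k * g * z * (k * g)⁻¹) * (g * k) := by rw [h1, h2]
      _ = _ := by group
  haveI hNs : Group.IsSolvable N := by
    haveI : (A.subgroupOf N).Normal := Subgroup.normal_in_normalizer
    haveI : Group.IsSolvable (A.subgroupOf N) := Group.isSolvable_of_comm fun p q =>
      Subtype.ext (Subtype.ext
        (congrArg (fun t : A => (t : G)) (A_comm S.hTI ⟨((p : N) : G), p.2⟩ ⟨((q : N) : G), q.2⟩)))
    haveI : Group.IsSolvable (N ⧸ A.subgroupOf N) := Group.isSolvable_of_comm fun p q => by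
      obtain ⟨g, rfl⟩ := QuotientGroup.mk_surjective p
      obtain ⟨k, rfl⟩ := QuotientGroup.mk_surjective q
      exact (QuotientGroup.eq.2 (show (k * g)⁻¹ * (g * k) ∈ A.subgroupOf N from
        hcom g k g.2 k.2)).symm
    exact (Group.isSolvable_iff_subgroup_quotient (A.subgroupOf N)).2 ⟨inferInstance, inferInstance⟩
  -- Frattini argument
  obtain ⟨q, hq, hqd⟩ := Nat.exists_prime_and_dvd (fun e => hu1 (orderOf_eq_one_iff.1 e))
  haveI := Fact.mk hq
  have hqc : q ∣ c := hqd.trans (S.hAc ▸ A.orderOf_dvd_natCard hu.2)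
  obtain ⟨P, hPA⟩ := S.exists_sylow_le hqc
  obtain ⟨T⟩ : Nonempty (Sylow q R) := inferInstance
  set T' : Subgroup G := (T : Subgroup R).map R.subtype
  have hT'p : IsPGroup q T' := T.isPGroup'.map _
  obtain ⟨P₁, hP₁⟩ := hT'p.exists_le_sylow
  obtain ⟨k, hk⟩ := MulAction.exists_smul_eq G P₁ P
  have hTne : T' ≠ ⊥ := fun h => T.ne_bot_of_dvd_card (hqd.trans (R.orderOf_dvd_natCard hu.1))
    ((Subgroup.map_eq_bot_iff_of_injective _ R.subtype_injective).1 h)
  have hTk : ∀ t ∈ T', k * t * k⁻¹ ∈ A := fun t ht => by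
    refine hPA ?_
    rw [← hk, Sylow.coe_subgroup_smul, Subgroup.mem_pointwise_smul_iff_inv_smul_mem]
    simpa [MulAut.smul_def, mul_assoc] using hP₁ ht
  haveI : Group.IsSolvable (G ⧸ R) := by
    refine Group.isSolvable_of_surjective (f := (QuotientGroup.mk' R).comp
      ((MulAut.conj k⁻¹).toMonoidHom.comp N.subtype)) fun gb => ?_
    obtain ⟨g, rfl⟩ := QuotientGroup.mk'_surjective R gb
    have htop := Sylow.normalizer_sup_eq_top (N := R) T
    obtain ⟨f, hf, r, hr, rfl⟩ : ∃ f ∈ Subgroup.normalizer (T' : Set G), ∃ r ∈ R, f * r = g :=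
      Subgroup.mem_sup_of_normal_right.1 (htop.symm ▸ Subgroup.mem_top g)
    obtain ⟨t, ht, ht1⟩ := (Subgroup.bot_or_exists_ne_one T').resolve_left hTne
    have hfN : k * f * k⁻¹ ∈ N := mem_normalizer_of_fusion S.hTI (hTk t ht)
      (fun e => ht1 (conj_eq_one_iff.1 e)) (by
        have h1 : f⁻¹ * t * f ∈ T' := by
          simpa using (Subgroup.mem_normalizer_iff.1 (inv_mem hf) t).1 ht
        rw [show (k * f * k⁻¹)⁻¹ * (k * t * k⁻¹) * (k * f * k⁻¹) = k * (f⁻¹ * t * f) * k⁻¹ by group]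
        exact hTk _ h1)
    refine ⟨⟨_, hfN⟩, ?_⟩
    show QuotientGroup.mk' R (k⁻¹ * (k * f * k⁻¹) * k⁻¹⁻¹) = QuotientGroup.mk' R (f * r)
    rw [show k⁻¹ * (k * f * k⁻¹) * k⁻¹⁻¹ = f by group, map_mul, QuotientGroup.mk'_apply R r,
      (QuotientGroup.eq_one_iff r).2 hr, mul_one]
  exact S.conf.hns ((Group.isSolvable_iff_subgroup_quotient R).2 ⟨S.hRs, inferInstance⟩)

theorem R_nilpotent : Group.IsNilpotent R := by
  haveI := S.hRn
  exact (S.fpf S.R_inf_A).isNilpotent S.A_ne_bot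

theorem commSub_le {g g' : G} (hco : (idx g).Coprime (idx g')) (hle : idx (g * g') ≤ idx g') :
    commSub g ≤ R := by
  have hd := card_commSub_dvd hco hle
  have hT := le_C_of_coprime (T := commSub g) (a := g) (hco.symm.coprime_dvd_left hd)
  exact S.hmax _ inferInstance (Group.isSolvable_of_comm fun p q =>
    Subtype.ext (commute_commSub hT p.2 q.2))

/-- A product with an element of `A` does not have centraliser order `a`. -/
theorem translate_A {u g : G} (hu : u ∈ A) (hu1 : u ≠ 1) (hg : cord g = a) : cord (g * u) ≠ a := by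
  intro he
  have hco : (idx u).Coprime (idx g) := by
    rw [S.idx_of_c (S.cord_of_mem hu hu1), S.idx_of_a hg]; exact S.hcop
  have he' : idx (u * g) ≤ idx g := by
    rw [S.idx_of_a hg, S.idx_of_a ((cord_eq_of_isConj
      (isConj_iff.2 ⟨u, by group⟩ : IsConj (g * u) (u * g))).symm.trans he)]
  have hle := S.commSub_le hco he'
  obtain ⟨k, hk, hkA⟩ := SetLike.exists_of_lt
    (lt_of_le_of_ne (Subgroup.le_normalizer (H := A)) S.normalizer_ne)
  have hmem : u⁻¹ * (k * u * k⁻¹) ∈ R ⊓ A :=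
    ⟨hle (mem_commSub u k), A.mul_mem (A.inv_mem hu) ((Subgroup.mem_normalizer_iff.1 hk u).1 hu)⟩
  rw [S.R_inf_A, Subgroup.mem_bot, inv_mul_eq_one] at hmem
  exact hkA (S.hTI u hu hu1 ▸ mem_C.2 (mul_inv_eq_iff_eq_mul.1 hmem.symm))

/-- Elements of `N(A)` outside `A` have centraliser order `b`. -/
theorem cord_out {g : G} (hg : g ∈ Subgroup.normalizer (A : Set G)) (hgA : g ∉ A) : cord g = b := by
  have hg1 : g ≠ 1 := fun e => hgA (e ▸ one_mem A)
  have hinj : Function.Injective fun v : A =>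
      (⟨g⁻¹ * v * g * (v : G)⁻¹, mul_mem (by
        simpa using (Subgroup.mem_normalizer_iff.1 (inv_mem hg) (v : G)).1 v.2)
          (inv_mem v.2)⟩ : A) := by
    intro v v' hvv
    have h : g⁻¹ * v * g * (v : G)⁻¹ = g⁻¹ * v' * g * (v' : G)⁻¹ := congrArg Subtype.val hvv
    have h' : (v : G) * g * (v : G)⁻¹ = v' * g * (v' : G)⁻¹ := by
      simpa [mul_assoc] using congrArg (fun t => g * t) h
    have hm : (v' : G)⁻¹ * v ∈ C(g) := mem_C.2 (by
      show (v' : G)⁻¹ * v * g = g * ((v' : G)⁻¹ * v)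
      calc (v' : G)⁻¹ * v * g = (v' : G)⁻¹ * (v * g * (v : G)⁻¹) * v := by group
        _ = _ := by rw [h']; group)
    by_contra hne
    have hne' : (v' : G)⁻¹ * v ≠ 1 := fun e => hne (Subtype.ext (inv_mul_eq_one.1 e).symm)
    exact hgA (S.hTI _ (mul_mem (inv_mem v'.2) v.2) hne' ▸ mem_C.2 (mem_C.1 hm).symm)
  rcases S.conf.hall g hg1 with e | e | e
  · obtain ⟨w, hw, hw1⟩ := (Subgroup.bot_or_exists_ne_one A).resolve_left S.A_ne_bot
    obtain ⟨v, hv⟩ := (Finite.injective_iff_bijective.1 hinj).surjective ⟨w, hw⟩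
    have hv' : g⁻¹ * v * g * (v : G)⁻¹ = w := congrArg Subtype.val hv
    exact absurd ((cord_eq_of_isConj
      (isConj_iff.2 ⟨(v : G), by rw [← hv']; group⟩ : IsConj g (g * w))).symm.trans e)
      (S.translate_A hw hw1 e)
  · exact e
  · exfalso
    set N := Subgroup.normalizer (A : Set G)
    haveI : (A.subgroupOf N).Normal := Subgroup.normal_in_normalizer
    have hdvd : orderOf g ∣ c := e ▸ Subgroup.orderOf_dvd_natCard C(g) (self_mem_C g)
    have hpow : g ^ A.relIndex N ∈ A := (A.subgroupOf N).pow_index_mem (⟨g, hg⟩ : N)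
    obtain ⟨i, hi⟩ := exists_pow_eq_self_of_coprime
      ((Nat.Coprime.coprime_dvd_left (S.index_A ▸
        Subgroup.relIndex_dvd_index_of_le Subgroup.le_normalizer) S.hcop).coprime_dvd_right hdvd)
    exact hgA (hi ▸ pow_mem hpow i)

/-- Elements of centraliser order `a` lie in the radical. -/
theorem mem_R_of_a {x : G} (hxa : cord x = a) : x ∈ R := by
  letI := Fintype.ofFinite G
  haveI := S.hRn
  by_contra hxR
  have hx1 : x ≠ 1 := fun e => hxR (e ▸ one_mem R)
  have hd : ∀ u ∈ A, u ≠ 1 → cord (x * u) = b := by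
    intro u hu hu1
    have huc := S.cord_of_mem hu hu1
    have hne : x * u ≠ 1 := fun e => S.conf.hac (by
      rw [← hxa, ← huc, eq_inv_of_mul_eq_one_left e]
      refine congrArg (fun H : Subgroup G => Nat.card H) ?_
      ext g
      rw [mem_C, mem_C]
      exact Commute.inv_right_iff)
    rcases S.conf.hall _ hne with e | e | e
    · exact absurd e (S.translate_A hu hu1 hxa)
    · exact e
    · exfalso
      have hle := S.commSub_le (g := x) (g' := u)
        (by rw [S.idx_of_a hxa, S.idx_of_c huc]; exact S.hcop.symm)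
        (by rw [S.idx_of_c e, S.idx_of_c huc])
      let M : Subgroup G := (Subgroup.center (G ⧸ R)).comap (QuotientGroup.mk' R)
      haveI : Group.IsSolvable M := by
        let f : M →* Subgroup.center (G ⧸ R) :=
          ((QuotientGroup.mk' R).comp M.subtype).codRestrict _ fun m => m.2
        haveI := S.hRs
        haveI : Group.IsSolvable (Subgroup.center (G ⧸ R)) :=
          Group.isSolvable_of_comm fun p q => Subtype.ext (Subgroup.mem_center_iff.1 q.2 p)
        refine Group.isSolvable_of_ker_le_range (Subgroup.inclusion (show R ≤ M from fun r hr => by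
          show QuotientGroup.mk' R r ∈ Subgroup.center (G ⧸ R)
          rw [QuotientGroup.mk'_apply, (QuotientGroup.eq_one_iff r).2 hr]; exact one_mem _)) f ?_
        intro m hm
        have : QuotientGroup.mk' R (m : G) = 1 := congrArg Subtype.val hm
        exact ⟨⟨m, (QuotientGroup.eq_one_iff _).1 this⟩, rfl⟩
      refine hxR (S.hmax M inferInstance inferInstance ?_)
      show QuotientGroup.mk' R x ∈ Subgroup.center (G ⧸ R)
      refine Subgroup.mem_center_iff.2 fun gb => ?_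
      obtain ⟨g, rfl⟩ := QuotientGroup.mk'_surjective R gb
      rw [← map_mul, ← map_mul, QuotientGroup.mk'_apply, QuotientGroup.mk'_apply, eq_comm,
        QuotientGroup.eq]
      have := S.hRn.conj_mem _ (hle (mem_commSub x g)) g⁻¹
      simpa [mul_assoc] using this
  obtain ⟨w, hw, hw1⟩ := (Subgroup.bot_or_exists_ne_one A).resolve_left S.A_ne_bot
  set N : Subgroup G := Subgroup.normalizer (A : Set G) with hNdef
  have hAN : A ≤ N := Subgroup.le_normalizer
  have hbound : b ≤ A.relIndex N + 1 := by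
    letI := Fintype.ofFinite A
    rw [← hd w hw hw1]
    refine ConjRankThree.card_centralizer_le S.hTI hw hw1 ?_ (fun u hu hu1 => ?_) fun u hu hu1 g => ?_
    · rw [S.hAc]; show cord x ≠ c; rw [hxa]; exact S.conf.hac
    · rw [S.hAc]; show cord (x * u) ≠ c; rw [hd u hu hu1]; exact S.conf.hbc
    · simpa using conj_classProd (S.conf.pair hxa (S.cord_of_mem hu hu1)).2 1 g
  have hedvd : A.relIndex N ∣ a := S.index_A ▸ Subgroup.relIndex_dvd_index_of_le hAN
  obtain ⟨E', hE'⟩ := Subgroup.exists_right_complement'_of_coprime (N := A.subgroupOf N) (by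
    rw [Nat.card_congr (Subgroup.subgroupOfEquivOfLe hAN).toEquiv, S.hAc]
    exact Nat.Coprime.coprime_dvd_right hedvd (Nat.Coprime.symm S.hcop))
  set E : Subgroup G := E'.map N.subtype with hEdef
  have hEN : E ≤ N := Subgroup.map_subtype_le _
  have hEcard : Nat.card E = A.relIndex N := by
    rw [hEdef, Subgroup.card_subtype]
    exact Nat.eq_of_mul_eq_mul_left Nat.card_pos
      ((Subgroup.IsComplement'.card_mul_card hE').trans
        (((mul_comm (A.subgroupOf N).index _).symm.trans (A.subgroupOf N).index_mul_card).symm))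
  have hEA : ∀ g ∈ E, g ∈ A → g = 1 := by
    rintro g ⟨g', hg', rfl⟩ hgA
    exact congrArg Subtype.val (Subgroup.mem_bot.1 (hE'.disjoint.le_bot
      ⟨show g' ∈ A.subgroupOf N from hgA, hg'⟩))
  have hfpf : Base.IsFPF E A := ⟨hEN, fun g hg hg1 => (Subgroup.eq_bot_iff_forall _).2 fun u hu => by
    by_contra hu1
    exact hg1 (hEA g hg (S.hTI u hu.1 hu1 ▸ mem_C.2 (mem_C.1 hu.2).symm))⟩
  have hEne : E ≠ ⊥ := fun h => S.normalizer_ne (le_antisymm hAN (Subgroup.relIndex_eq_one.1 (by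
    rw [← hEcard, h, Subgroup.card_bot])))
  haveI : Nontrivial (Subgroup.center E) :=
    (Subgroup.nontrivial_iff_ne_bot _).2 (hfpf.center_ne_bot S.A_ne_bot hEne)
  obtain ⟨r, hr, hrd⟩ := Nat.exists_prime_and_dvd
    (Finite.one_lt_card (α := Subgroup.center E)).ne'
  haveI := Fact.mk hr
  obtain ⟨z', hz'⟩ := exists_prime_orderOf_dvd_card' r hrd
  set z : G := ((z'.1 : E) : G) with hzdef
  have hzo : orderOf z = r := by rw [hzdef, Subgroup.orderOf_coe, Subgroup.orderOf_coe, hz']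
  have hz1 : z ≠ 1 := fun e => hr.one_lt.ne' (by rw [← hzo, e, orderOf_one])
  have hzE : z ∈ E := z'.1.2
  have hzb : cord z = b := S.cord_out (hEN hzE) fun h => hz1 (hEA z hzE h)
  have hra : r ∣ a := (hrd.trans (Subgroup.card_subgroup_dvd_card _)).trans (hEcard ▸ hedvd)
  obtain ⟨k, hk⟩ := CfsgLib.CharApps.ClassSizes.exists_conj_mem (H := C(x)) (u := z) (e := 1) hr (by rw [pow_one, hzo])
    fun hd' => hr.one_lt.ne' (Nat.eq_one_of_dvd_coprimes S.hcop hra (S.idx_of_a hxa ▸ hd'))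
  set x' := k * x * k⁻¹ with hx'def
  have hx'a : cord x' = a := ((cord_eq_of_isConj (isConj_iff.2 ⟨k, rfl⟩ : IsConj x x')).symm).trans hxa
  have hx'1 : x' ≠ 1 := fun e => hx1 (conj_eq_one_iff.1 e)
  have hx'z : x' ∈ C(z) := mem_C.2 (by
    show k * x * k⁻¹ * z = z * (k * x * k⁻¹)
    calc k * x * k⁻¹ * z = k * (x * (k⁻¹ * z * k)) * k⁻¹ := by group
      _ = k * ((k⁻¹ * z * k) * x) * k⁻¹ := by rw [(mem_C.1 hk).symm.eq]
      _ = _ := by group)
  have hx'E : x' ∉ E := fun h => S.conf.hba ((S.cord_out (hEN h) fun hA' =>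
    hx'1 (hEA x' h hA')).symm.trans hx'a)
  have hEz : E ≤ C(z) := fun g hg => mem_C.2
    (congrArg Subtype.val (Subgroup.mem_center_iff.1 z'.2 ⟨g, hg⟩))
  obtain ⟨m, hm⟩ : A.relIndex N ∣ b := by
    have := Subgroup.card_dvd_of_le hEz
    rwa [hEcard, show Nat.card C(z) = b from hzb] at this
  have hbne : b ≠ A.relIndex N := fun h => hx'E (by
    have : E = C(z) := Subgroup.eq_of_le_of_card_ge hEz (by
      rw [hEcard, show Nat.card C(z) = b from hzb, h])
    exact this ▸ hx'z)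
  have he1 : A.relIndex N ≠ 1 := fun h =>
    S.normalizer_ne (le_antisymm hAN (Subgroup.relIndex_eq_one.1 h))
  have hb0 : 0 < b := hzb ▸ Nat.card_pos
  rcases m with _ | _ | m
  · simp [hm] at hb0
  · exact hbne (by simpa using hm)
  · have : A.relIndex N ≠ 0 := fun h => by simp [hm, h] at hb0
    have : A.relIndex N * 2 ≤ A.relIndex N * (m + 1 + 1) := Nat.mul_le_mul_left _ (by omega)
    omega

/-- Elements outside the radical have centraliser order `b` or are conjugate into `A`. -/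
theorem cover {g : G} (hg : g ∉ R) : cord g = b ∨ ∃ k : G, k⁻¹ * g * k ∈ A := by
  have hg1 : g ≠ 1 := fun e => hg (e ▸ one_mem R)
  rcases S.conf.hall g hg1 with e | e | e
  · exact absurd (S.mem_R_of_a e) hg
  · exact Or.inl e
  · exact Or.inr (S.exists_conj hg1 e)

end Setup

end CfsgLib.FewSizes
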