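import Cfsg.Agent.Lib.FewSizes.BDivC
import Cfsg.Agent.Lib.FT.OddOrderTheorem
import Cfsg.Agent.S4135

/-!
# The centralisers of order `c` are abelian and not normal
-/

set_option autoImplicit false
set_option linter.style.haveILetI false

namespace CfsgLib.FewSizes

open CfsgLib.ConjRankThree CharApps.ClassSizes

universe u

variable {G : Type u} [Group G] [Finite G]

local notation "C(" g ")" => Subgroup.centralizer ({g} : Set G)

/-- An element of order `p` central in a given Sylow subgroup. -/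
theorem exists_central_prime {p : ℕ} [Fact p.Prime] (P : Sylow p G) (hd : p ∣ Nat.card G) :
    ∃ z ∈ (P : Subgroup G), orderOf z = p ∧ (P : Subgroup G) ≤ C(z) := by
  have hne : Nontrivial (P : Subgroup G) :=
    (Subgroup.nontrivial_iff_ne_bot _).2 (P.ne_bot_of_dvd_card hd)
  haveI := P.isPGroup'.center_nontrivial
  obtain ⟨k, hk⟩ := IsPGroup.iff_card.1 (P.isPGroup'.to_subgroup (Subgroup.center (P : Subgroup G)))
  have hk0 : k ≠ 0 := fun h0 => by
    have := Finite.one_lt_card (α := Subgroup.center (P : Subgroup G))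
    rw [hk, h0, pow_zero] at this
    omega
  obtain ⟨z, hz⟩ := exists_prime_orderOf_dvd_card' p (hk ▸ dvd_pow_self p hk0)
  exact ⟨_, z.1.2, by rw [Subgroup.orderOf_coe, Subgroup.orderOf_coe, hz], fun g hg =>
    mem_C.2 (congrArg Subtype.val (Subgroup.mem_center_iff.1 z.2 ⟨g, hg⟩))⟩

namespace Conf

variable {a b c : ℕ} (h : Conf G a b c)
include h

theorem rigid {u : G} (hu : u ≠ 1) (huc : cord u = c) : Rigid u :=
  rigid_of_antichain hu fun v hv hdv => by
    rw [huc] at hdv ⊢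
    rcases h.hall v hv with e | e | e <;> rw [e] at hdv ⊢
    · exact absurd hdv (not_or.2 ⟨h.not_c_dvd_a, h.not_a_dvd_c⟩)
    · exact absurd hdv (not_or.2 ⟨h.not_c_dvd_b, h.not_b_dvd_c⟩)

/-- A centraliser of order `c` which is a `q`-group is abelian. -/
theorem comm_of_pGroup {q : ℕ} [Fact q.Prime] {w : G} (hw1 : w ≠ 1) (hwc : cord w = c)
    (hQ : IsPGroup q C(w)) : IsMulCommutative C(w) := by
  have hq : q.Prime := Fact.out
  obtain ⟨j, hj⟩ := IsPGroup.iff_card.1 hQ
  have hcj : c = q ^ j := hwc.symm.trans hj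
  have hj0 : j ≠ 0 := fun h0 => by
    have := h.one_lt_cord hw1
    rw [hwc, hcj, h0, pow_zero] at this
    omega
  have hqG : q ∣ Nat.card G := (dvd_pow_self q hj0).trans (hj ▸ C(w).card_subgroup_dvd_card)
  have hfull : j = (Nat.card G).factorization q := by
    refine le_antisymm ((hq.pow_dvd_iff_le_factorization Nat.card_pos.ne').1
      (hj ▸ C(w).card_subgroup_dvd_card)) ?_
    by_contra hlt
    obtain ⟨z, hzo, hz⟩ := exists_full_prime hq hqG
    have hz' := hz _ (Nat.ordProj_dvd (Nat.card G) q)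
    have hz1 : z ≠ 1 := fun e => hq.one_lt.ne' (by rw [← hzo, e, orderOf_one])
    refine h.not_c_dvd_a ?_
    rw [hcj]
    rcases h.hall z hz1 with e | e | e <;> rw [e] at hz'
    · exact (pow_dvd_pow q (by omega)).trans hz'
    · exact ((pow_dvd_pow q (by omega)).trans hz').trans h.hb
    · rw [hcj, Nat.pow_dvd_pow_iff_le_right hq.one_lt] at hz'
      omega
  let Q : Sylow q G := Sylow.ofCard C(w) (by rw [hj, hfull])
  have hQw : (Q : Subgroup G) = C(w) := rfl
  obtain ⟨R, hRn, hRs, hmax⟩ := exists_radical (G := G)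
  haveI := hRn
  -- a prime element of centraliser order `a`
  have hb0 : b ≠ 0 := by
    obtain ⟨v, -, hvb⟩ := h.hvb
    exact hvb ▸ Nat.card_pos.ne'
  obtain ⟨p, hp, hpq, hpb⟩ : ∃ p : ℕ, p.Prime ∧ p ≠ q ∧
      ¬ p ^ (Nat.card G).factorization p ∣ b := by
    by_contra hno
    push Not at hno
    haveI : Group.IsSolvable (G ⧸ R) := by
      refine Chars.isSolvable_of_primeFactors_pair q q fun r hr hrd => Or.inl ?_
      by_contra hrq
      haveI := Fact.mk hr
      obtain ⟨gb, hgb⟩ := exists_prime_orderOf_dvd_card' r hrd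
      obtain ⟨g, rfl⟩ := QuotientGroup.mk'_surjective R gb
      set i := (orderOf g).factorization q
      have ho : orderOf (g ^ q ^ i) = orderOf g / q ^ i :=
        orderOf_pow_of_dvd (pow_ne_zero _ hq.ne_zero) (Nat.ordProj_dvd _ q)
      have hnq : ¬ q ∣ orderOf (g ^ q ^ i) := ho ▸ Nat.not_dvd_ordCompl hq (orderOf_pos g).ne'
      have hgR : g ^ q ^ i ∉ R := fun hm => by
        rw [← QuotientGroup.ker_mk' R, MonoidHom.mem_ker, map_pow, ← orderOf_dvd_iff_pow_eq_one,
          hgb] at hm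
        exact hrq ((Nat.prime_dvd_prime_iff_eq hr hq).1 (hr.dvd_of_dvd_pow hm))
      set g' := g ^ q ^ i
      have hg'1 : g' ≠ 1 := fun e => hgR (e ▸ one_mem R)
      have hb' : ∀ l : ℕ, l.Prime → l ≠ q → l ^ (Nat.card G).factorization l ∣ cord g' := by
        intro l hl hlq
        rcases h.hall g' hg'1 with e | e | e <;> rw [e]
        · exact (hno l hl hlq).trans h.hb
        · exact hno l hl hlq
        · exfalso
          have hd : orderOf g' ∣ q ^ j :=
            hcj ▸ e ▸ Subgroup.orderOf_dvd_natCard C(g') (self_mem_C g')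
          obtain ⟨l', -, hl'⟩ := (Nat.dvd_prime_pow hq).1 hd
          rcases l' with _ | l'
          · exact hg'1 (orderOf_eq_one_iff.1 (by simpa using hl'))
          · exact hnq (hl' ▸ dvd_pow_self q (Nat.succ_ne_zero l'))
      obtain ⟨k, hk⟩ : ∃ k, C(g').index = q ^ k :=
        ⟨_, Nat.eq_prime_pow_of_unique_prime_dvd Subgroup.index_ne_zero_of_finite fun {l} hl hld => by
          by_contra hlq
          exact not_full hl C(g').index_mul_card hld (hb' l hl hlq)⟩
      exact hgR (mem_radical_of_prime_pow hmax hq hk)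
    exact h.hns ((Group.isSolvable_iff_subgroup_quotient R).2 ⟨hRs, inferInstance⟩)
  haveI := Fact.mk hp
  have hv0 : (Nat.card G).factorization p ≠ 0 := fun h0 => hpb (by rw [h0, pow_zero]; exact one_dvd b)
  have hpG : p ∣ Nat.card G := Nat.dvd_of_factorization_pos hv0
  have hpc : ¬ p ^ (Nat.card G).factorization p ∣ c := fun hd => hpq
    ((Nat.prime_dvd_prime_iff_eq hp hq).1 (hp.dvd_of_dvd_pow (hcj ▸ (dvd_pow_self p hv0).trans hd)))
  have hcorda : ∀ {g : G}, g ≠ 1 → p ^ (Nat.card G).factorization p ∣ cord g → cord g = a :=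
    fun {g} hg hd => by
      rcases h.hall g hg with e | e | e
      · exact e
      · exact absurd (e ▸ hd) hpb
      · exact absurd (e ▸ hd) hpc
  obtain ⟨y, hyo, hy⟩ := exists_full_prime hp hpG
  have hy1 : y ≠ 1 := fun e => hp.one_lt.ne' (by rw [← hyo, e, orderOf_one])
  have hya : cord y = a := hcorda hy1 (hy _ (Nat.ordProj_dvd _ p))
  have hnotQ : ∀ {z : G}, orderOf z = p → z ∉ C(w) := fun {z} hz hzw => by
    obtain ⟨k, hk⟩ := IsPGroup.iff_orderOf.1 hQ ⟨z, hzw⟩
    rw [Subgroup.orderOf_mk, hz] at hk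
    exact hpq ((Nat.prime_dvd_prime_iff_eq hp hq).1 (hp.dvd_of_dvd_pow (dvd_of_eq hk)))
  have hqpow : ∀ {s : G}, s ∈ C(w) → ∀ {l : ℕ}, l.Prime → l ≠ q → (orderOf s).Coprime l :=
    fun {s} hs l hl hlq => by
      obtain ⟨k, hk⟩ := IsPGroup.iff_orderOf.1 hQ ⟨s, hs⟩
      rw [Subgroup.orderOf_mk] at hk
      rw [hk]
      exact ((Nat.coprime_primes hq hl).2 (Ne.symm hlq)).pow_left k
  have hnota : ∀ s ∈ C(w), s ≠ 1 → cord s ≠ a := by
    intro s hs hs1 hsa
    have hcard : Nat.card C(s) = a := hsa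
    have hpa : p ^ (Nat.card G).factorization p ∣ a := hya ▸ hy _ (Nat.ordProj_dvd _ p)
    obtain ⟨S⟩ : Nonempty (Sylow p C(s)) := inferInstance
    have hS : Nat.card ((S : Subgroup C(s)).map C(s).subtype) =
        p ^ (Nat.card G).factorization p := by
      rw [Subgroup.card_subtype, S.card_eq_multiplicity]
      refine congrArg _ (le_antisymm ((Nat.factorization_le_iff_dvd Nat.card_pos.ne'
        Nat.card_pos.ne').2 C(s).card_subgroup_dvd_card p) ?_)
      exact (hp.pow_dvd_iff_le_factorization Nat.card_pos.ne').1 (by rw [hcard]; exact hpa)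
    let P : Sylow p G := Sylow.ofCard _ hS
    have hPs : (P : Subgroup G) ≤ C(s) := by
      show (S : Subgroup C(s)).map C(s).subtype ≤ C(s)
      exact Subgroup.map_subtype_le _
    obtain ⟨z, hzP, hzo, hzC⟩ := exists_central_prime P hpG
    have hm := C_mul_eq (mem_C.1 (hPs hzP)).symm (show (orderOf s).Coprime (orderOf z) by
      rw [hzo]; exact hqpow hs hp hpq)
    have hne : s * z ≠ 1 := fun e => hnotQ hzo (by
      rw [eq_inv_of_mul_eq_one_right e]; exact inv_mem hs)
    have hd : cord (s * z) = a := hcorda hne (by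
      refine (dvd_of_eq (Sylow.card_eq_multiplicity P).symm).trans (Subgroup.card_dvd_of_le ?_)
      rw [hm]
      exact le_inf hPs hzC)
    have heq : C(s * z) = C(s) := Subgroup.eq_of_le_of_card_ge (hm.le.trans inf_le_left)
      (hsa.trans hd.symm).le
    have hwz : w ∈ C(z) := (hm.le.trans inf_le_right) (heq.symm ▸ mem_C.2 (mem_C.1 hs).symm)
    exact hnotQ hzo (mem_C.2 (mem_C.1 hwz).symm)
  have hgcd : a.gcd c = 1 := by
    by_contra hne
    have hqh : q ∣ Nat.card (C(y) ⊓ C(w) : Subgroup G) := by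
      rw [(h.pair hya hwc).1]
      obtain ⟨l, hl, hld⟩ := Nat.exists_prime_and_dvd hne
      exact ((Nat.prime_dvd_prime_iff_eq hl hq).1
        (hl.dvd_of_dvd_pow (hcj ▸ hld.trans (Nat.gcd_dvd_right a c)))) ▸ hld
    obtain ⟨s, hs⟩ := exists_prime_orderOf_dvd_card' q hqh
    have hso : orderOf (s : G) = q := by rw [Subgroup.orderOf_coe, hs]
    have hs1 : (s : G) ≠ 1 := fun e => hq.one_lt.ne' (by rw [← hso, e, orderOf_one])
    have hco : (orderOf (s : G)).Coprime (orderOf y) := by rw [hyo]; exact hqpow s.2.2 hp hpq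
    rcases h.hall _ hs1 with e | e | e
    · exact hnota _ s.2.2 hs1 e
    · have hm := C_mul_eq (mem_C.1 s.2.1) hco
      have hne1 : (s : G) * y ≠ 1 := fun e1 => hnotQ hyo (by
        rw [eq_inv_of_mul_eq_one_right e1]; exact inv_mem s.2.2)
      have hd : cord ((s : G) * y) ∣ cord (s : G) := Subgroup.card_dvd_of_le (hm.le.trans inf_le_left)
      have heq : C((s : G) * y) = C((s : G)) := by
        refine Subgroup.eq_of_le_of_card_ge (hm.le.trans inf_le_left) ?_
        show cord (s : G) ≤ cord ((s : G) * y)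
        rcases h.hall _ hne1 with e' | e' | e' <;> rw [e, e'] at hd ⊢
        · exact absurd hd h.not_a_dvd_b
        · exact absurd hd h.not_c_dvd_b
      have hwy : w ∈ C(y) := (hm.le.trans inf_le_right) (heq.symm ▸ mem_C.2 (mem_C.1 s.2.2).symm)
      exact hnotQ hyo (mem_C.2 (mem_C.1 hwy).symm)
    · exact h.not_b_dvd_c ((h.eq_gcd_of_commute hya e (mem_C.1 s.2.1).symm hco.symm hy1) ▸
        Nat.gcd_dvd_right a c)
  have hqc : ∀ u : G, u ≠ 1 → (∃ k, orderOf u = q ^ k) → cord u = c := by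
    rintro u hu ⟨k, hk⟩
    have hk0 : k ≠ 0 := fun h0 => hu (orderOf_eq_one_iff.1 (by rw [hk, h0, pow_zero]))
    have hqu : q ∣ cord u :=
      (hk ▸ dvd_pow_self q hk0).trans (Subgroup.orderOf_dvd_natCard C(u) (self_mem_C u))
    have hqa : ¬ q ∣ a := fun hd => hq.one_lt.ne'
      (Nat.dvd_one.1 (hgcd ▸ Nat.dvd_gcd hd (hcj ▸ dvd_pow_self q hj0)))
    rcases h.hall u hu with e | e | e
    · exact absurd (e ▸ hqu) hqa
    · exact absurd ((e ▸ hqu).trans h.hb) hqa
    · exact e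
  have hidxn : ∀ u : G, cord u = c → ¬ q ∣ C(u).index := fun u hu hd => by
    refine not_full hq C(u).index_mul_card hd ?_
    rw [show Nat.card C(u) = c from hu, hcj, hfull]
  by_contra hcom
  have normal_q : ∀ T : Subgroup G, T.Normal → IsPGroup q T → T = ⊥ := by
    intro T hTn hT
    by_contra hne
    haveI := hTn
    have hTC : ∀ u : G, u ≠ 1 → (∃ k, orderOf u = q ^ k) → T ≤ C(u) := fun u hu hk => by
      obtain ⟨i, hi⟩ := IsPGroup.iff_card.1 hT
      exact le_C_of_coprime (by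
        rw [hi]; exact ((hq.coprime_iff_not_dvd).2 (hidxn u (hqc u hu hk))).pow_left i)
    have hQC : ∀ v ∈ T, v ≠ 1 → ∀ u : G, (∃ k, orderOf u = q ^ k) → u ∈ C(v) := fun v hv _ u hk => by
      by_cases hu : u = 1
      · rw [hu]; exact one_mem _
      · exact mem_C.2 (mem_C.1 (hTC u hu hk hv)).symm
    obtain ⟨v, hv, hv1⟩ := (Subgroup.bot_or_exists_ne_one T).resolve_left hne
    have hpow : ∀ u ∈ C(w), ∃ k, orderOf u = q ^ k := fun u hu => by
      obtain ⟨k, hk⟩ := IsPGroup.iff_orderOf.1 hQ ⟨u, hu⟩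
      exact ⟨k, by rwa [Subgroup.orderOf_mk] at hk⟩
    have hvc : cord v = c := hqc v hv1 (by
      obtain ⟨k, hk⟩ := IsPGroup.iff_orderOf.1 hT ⟨v, hv⟩
      exact ⟨k, by rwa [Subgroup.orderOf_mk] at hk⟩)
    have hQv : C(w) = C(v) := Subgroup.eq_of_le_of_card_ge
      (fun u hu => hQC v hv hv1 u (hpow u hu)) (hvc.trans hwc.symm).le
    have hCn : (C(w)).Normal := ⟨fun u hu g => by
      rw [hQv]
      obtain ⟨k, hk⟩ := hpow u hu
      exact hQC v hv hv1 _ ⟨k, by rw [← MulAut.conj_apply, MulEquiv.orderOf_eq, hk]⟩⟩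
    haveI := hCn
    refine hcom (comm_of_orderOf fun u hu u' hu' => ?_)
    by_cases hu1 : u' = 1
    · rw [hu1]; exact Commute.one_right u
    exact mem_C.1 (le_C_of_coprime (T := C(w)) (a := u') (by
      rw [hj]
      exact ((hq.coprime_iff_not_dvd).2 (hidxn u' (hqc u' hu1 (hpow u' hu')))).pow_left j) hu)
  -- an abelian normal subgroup of order prime to `q`
  have hyR : y ∈ R := by
    have hdvd : C(y).index ∣ q ^ j := by
      refine Dvd.intro_left 1 (Nat.eq_of_mul_eq_mul_right (Nat.card_pos (α := C(y))) ?_)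
      rw [one_mul, C(y).index_mul_card, show Nat.card C(y) = a from hya, ← h.lcm_eq, ← hcj, mul_comm,
        ← Nat.gcd_mul_lcm a c, hgcd, one_mul]
    obtain ⟨i, -, hi⟩ := (Nat.dvd_prime_pow hq).1 hdvd
    exact mem_radical_of_prime_pow hmax hq hi
  obtain ⟨V, hVn, hVR, hV, hVc⟩ := exists_comm_normal hRs fun e => hy1 (Subgroup.mem_bot.1 (e ▸ hyR))
  haveI := hVn
  have hVq : ∀ v ∈ V, v ≠ 1 → ∀ u : G, (∃ k, orderOf u = q ^ k) → u ≠ 1 → v ∉ C(u) := by
    intro v hv hv1 u hk hu hvu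
    let T : Subgroup G :=
      { carrier := {g | g ∈ V ∧ g ^ q ^ j = 1}
        one_mem' := ⟨one_mem V, one_pow _⟩
        mul_mem' := fun {x y} hx hy =>
          ⟨mul_mem hx.1 hy.1, by rw [(hVc x hx.1 y hy.1).mul_pow, hx.2, hy.2, one_mul]⟩
        inv_mem' := fun {x} hx => ⟨inv_mem hx.1, by rw [inv_pow, hx.2, inv_one]⟩ }
    have hTn : T.Normal := ⟨fun x hx g =>
      ⟨hVn.conj_mem x hx.1 g, by rw [conj_pow, hx.2, mul_one, mul_inv_cancel]⟩⟩
    have hT : IsPGroup q T := IsPGroup.iff_orderOf.2 fun x => by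
      obtain ⟨i, -, hi⟩ := (Nat.dvd_prime_pow hq).1 (orderOf_dvd_of_pow_eq_one x.2.2)
      exact ⟨i, by rw [← Subgroup.orderOf_coe]; exact hi⟩
    refine hv1 (Subgroup.mem_bot.1 (normal_q T hTn hT ▸ (⟨hv, ?_⟩ : v ∈ T)))
    rw [← orderOf_dvd_iff_pow_eq_one, ← hcj, ← hqc u hu hk]
    exact Subgroup.orderOf_dvd_natCard _ hvu
  have hqw : ∀ u ∈ C(w), ∃ k, orderOf u = q ^ k := fun u hu => by
    obtain ⟨k, hk⟩ := IsPGroup.iff_orderOf.1 hQ ⟨u, hu⟩
    exact ⟨k, by rwa [Subgroup.orderOf_mk] at hk⟩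
  have hfpf : Base.IsFPF C(w) V := ⟨by rw [Subgroup.normalizer_eq_top_iff.2 hVn]; exact le_top,
    fun u hu hu1 => (Subgroup.eq_bot_iff_forall _).2 fun v hv => by
      by_contra hv1
      exact hVq v hv.1 hv1 u (hqw u hu) hu1 hv.2⟩
  rcases Base.IsFPF.isCyclic_or_quaternion hfpf hV (⊤ : Subgroup C(w)) (hQ.to_subgroup _) with
    hcyc | ⟨h2, -⟩
  · haveI := hcyc
    haveI : IsCyclic C(w) := isCyclic_of_surjective _ (Subgroup.topEquiv (G := C(w))).surjective
    letI : CommGroup C(w) := IsCyclic.commGroup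
    exact hcom ⟨⟨mul_comm⟩⟩
  subst h2
  -- involutions invert `V`, so their products centralise it
  set K : Subgroup G := Subgroup.centralizer (V : Set G) with hK
  have hinv : ∀ i : G, orderOf i = 2 → ∀ v ∈ V, i * v * i⁻¹ = v⁻¹ := by
    intro i hi v hv
    have hv' : i * v * i⁻¹ ∈ V := hVn.conj_mem v hv i
    have hi1 : i ≠ 1 := fun e => by simp [e] at hi
    have hii : i * i = 1 := by rw [← sq, ← hi, pow_orderOf_eq_one]
    by_contra hne
    have hmem : v * (i * v * i⁻¹) ∈ V := mul_mem hv hv'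
    refine hVq _ hmem (fun e => hne (eq_inv_of_mul_eq_one_right e)) i ⟨1, by rw [hi, pow_one]⟩ hi1
      (mem_C.2 (Commute.symm (show i * (v * (i * v * i⁻¹)) = v * (i * v * i⁻¹) * i from ?_)))
    calc i * (v * (i * v * i⁻¹)) = i * v * i⁻¹ * (i * i * v * i⁻¹) := by group
      _ = i * v * i⁻¹ * (v * i⁻¹) := by rw [hii, one_mul]
      _ = v * (i * v * i⁻¹) * i⁻¹ := by rw [← mul_assoc, (hVc _ hv' v hv).eq]
      _ = _ := by rw [inv_eq_of_mul_eq_one_right hii]
  obtain ⟨v₀, hv₀, hv₀1⟩ := (Subgroup.bot_or_exists_ne_one V).resolve_left hV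
  haveI : K.Normal := Subgroup.normal_centralizer
  have hKodd : ¬ 2 ∣ Nat.card K := fun hd => by
    obtain ⟨i, hi⟩ := exists_prime_orderOf_dvd_card' 2 hd
    have hio : orderOf (i : G) = 2 := by rw [Subgroup.orderOf_coe, hi]
    refine hVq v₀ hv₀ hv₀1 i ⟨1, by rw [hio, pow_one]⟩ (fun e => by simp [e] at hio) ?_
    exact mem_C.2 (Subgroup.mem_centralizer_iff.1 i.2 v₀ hv₀)
  obtain ⟨i₀, hi₀⟩ := exists_prime_orderOf_dvd_card' 2 hqG
  have hi₀1 : i₀ ≠ 1 := fun e => by simp [e] at hi₀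
  have hKc : ∀ k : G, k ∈ K → k ∈ C(i₀) → k = 1 := by
    intro k hk hki
    have hcc := hqc i₀ hi₀1 ⟨1, by rw [hi₀, pow_one]⟩
    have hd : orderOf k ∣ 2 ^ j := hcj ▸ hcc ▸ Subgroup.orderOf_dvd_natCard _ hki
    have hd' : orderOf k ∣ Nat.card K := K.orderOf_dvd_natCard hk
    exact orderOf_eq_one_iff.1 (Nat.eq_one_of_dvd_coprimes
      ((Nat.prime_two.coprime_iff_not_dvd.2 hKodd).pow_left j) hd hd')
  have hcong : ∀ g : G, ∃ k ∈ K, k * i₀ * k⁻¹ = g * i₀ * g⁻¹ := by
    have hmem : ∀ g : G, i₀⁻¹ * (g * i₀ * g⁻¹) ∈ K := fun g => by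
      refine Subgroup.mem_centralizer_iff.2 fun v hv => ?_
      have h1 := hinv (g * i₀ * g⁻¹) (by rw [← MulAut.conj_apply, MulEquiv.orderOf_eq, hi₀]) v hv
      have h2 := hinv i₀ hi₀ v⁻¹ (inv_mem hv)
      rw [inv_inv] at h2
      set i := g * i₀ * g⁻¹
      calc v * (i₀⁻¹ * i) = i₀⁻¹ * (i₀ * v * i₀⁻¹) * i := by group
        _ = i₀⁻¹ * v⁻¹ * i := by rw [hinv i₀ hi₀ v hv]
        _ = i₀⁻¹ * (i * v * i⁻¹) * i := by rw [h1]
        _ = i₀⁻¹ * i * v := by group
    intro g
    have hinj : Function.Injective fun k : K =>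
        (⟨i₀⁻¹ * ((k : G) * i₀ * (k : G)⁻¹), hmem k⟩ : K) := by
      intro k k' hkk
      have h1 : (k : G) * i₀ * (k : G)⁻¹ = k' * i₀ * (k' : G)⁻¹ :=
        mul_left_cancel (congrArg Subtype.val hkk)
      have h2 := hKc _ (mul_mem (inv_mem k'.2) k.2) (mem_C.2 (by
        show (k' : G)⁻¹ * k * i₀ = i₀ * ((k' : G)⁻¹ * k)
        calc (k' : G)⁻¹ * k * i₀ = (k' : G)⁻¹ * (k * i₀ * (k : G)⁻¹) * k := by group
          _ = _ := by rw [h1]; group))
      exact Subtype.ext (inv_mul_eq_one.1 h2).symm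
    obtain ⟨k, hk⟩ := (Finite.injective_iff_surjective.1 hinj) ⟨_, hmem g⟩
    exact ⟨k, k.2, mul_left_cancel (congrArg Subtype.val hk)⟩
  haveI hQs : Group.IsSolvable C(i₀) := by
    haveI := (IsPGroup.of_card (p := 2) (n := j) (G := C(i₀))
      ((hqc i₀ hi₀1 ⟨1, by rw [hi₀, pow_one]⟩).trans hcj)).isNilpotent
    infer_instance
  haveI : Group.IsSolvable (G ⧸ K) := by
    refine Group.isSolvable_of_surjective (f := (QuotientGroup.mk' K).comp C(i₀).subtype) fun gb => ?_
    obtain ⟨g, rfl⟩ := QuotientGroup.mk'_surjective K gb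
    obtain ⟨k, hk, hke⟩ := hcong g
    refine ⟨⟨k⁻¹ * g, mem_C.2 ?_⟩, ?_⟩
    · show k⁻¹ * g * i₀ = i₀ * (k⁻¹ * g)
      calc k⁻¹ * g * i₀ = k⁻¹ * (g * i₀ * g⁻¹) * g := by group
        _ = _ := by rw [← hke]; group
    · show QuotientGroup.mk' K (k⁻¹ * g) = QuotientGroup.mk' K g
      rw [map_mul, map_inv, QuotientGroup.mk'_apply, (QuotientGroup.eq_one_iff k).2 hk, inv_one,
        one_mul]
  have hKs : Group.IsSolvable K := FT.isSolvable_of_odd (Nat.odd_iff.2 (by omega))
  exact h.hns ((Group.isSolvable_iff_subgroup_quotient K).2 ⟨hKs, inferInstance⟩)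

/-- An abelian Hall centraliser of order `c` is not normal. -/
theorem not_normal {A : Subgroup G} [A.Normal] (hTI : ∀ u ∈ A, u ≠ 1 → C(u) = A)
    (hAc : Nat.card A = c) (hidx : A.index = a) (hcop : a.Coprime c) : False := by
  obtain ⟨E, hE⟩ := Subgroup.exists_right_complement'_of_coprime (N := A)
    (by rw [hAc, hidx]; exact hcop.symm)
  have hEa : Nat.card E = a := by rw [← hidx]; exact (hE.symm.index_eq_card).symm
  have hdisj : ∀ g : G, g ∈ A → g ∈ E → g = 1 := fun g h1 h2 =>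
    Subgroup.mem_bot.1 (hE.disjoint.le_bot ⟨h1, h2⟩)
  have hCE : ∀ g ∈ E, g ≠ 1 → C(g) ≤ E := by
    intro g hg hg1 v hv
    obtain ⟨⟨u, e⟩, hue⟩ := hE.2 v
    have hv' : v = (u : G) * e := hue.symm
    have h1 : g * v * g⁻¹ = v := mul_inv_eq_iff_eq_mul.2 (mem_C.1 hv).symm.eq
    have h2 : g * u * g⁻¹ ∈ A := Subgroup.Normal.conj_mem inferInstance _ u.2 g
    have h3 : g * e * g⁻¹ ∈ E := mul_mem (mul_mem hg e.2) (inv_mem hg)
    have h4 : ((⟨_, h2⟩, ⟨_, h3⟩) : A × E) = (u, e) := hE.1 (by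
      show g * u * g⁻¹ * (g * e * g⁻¹) = (u : G) * e
      rw [← hv']
      conv_rhs => rw [← h1, hv']
      group)
    have h5 : g * (u : G) * g⁻¹ = u := congrArg (fun t : A × E => (t.1 : G)) h4
    by_cases hu : (u : G) = 1
    · rw [hv', hu, one_mul]; exact e.2
    · refine absurd (hdisj g ?_ hg) hg1
      rw [← hTI u u.2 hu]
      exact mem_C.2 (mul_inv_eq_iff_eq_mul.1 h5)
  have hcase : ∀ g : E, (Subgroup.centralizer ({g} : Set E)).index = 1 ∨
      (Subgroup.centralizer ({g} : Set E)).index = a / b := by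
    intro g
    by_cases hg1 : (g : G) = 1
    · refine Or.inl (idx_eq_one_iff.2 ?_)
      rw [show g = 1 from Subtype.ext hg1]
      exact one_mem _
    have hsub : Subgroup.centralizer ({g} : Set E) = C((g : G)).subgroupOf E := by
      ext v
      simp [Subgroup.mem_centralizer_singleton_iff, Subgroup.mem_subgroupOf, Subtype.ext_iff]
    have hcard : Nat.card (Subgroup.centralizer ({g} : Set E)) = cord (g : G) := by
      rw [hsub, Nat.card_congr (Subgroup.subgroupOfEquivOfLe (hCE g g.2 hg1)).toEquiv]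
    have hmul := (Subgroup.centralizer ({g} : Set E)).index_mul_card
    rw [hcard, hEa] at hmul
    rcases h.hall _ hg1 with e | e | e <;> rw [e] at hmul
    · exact Or.inl (Nat.eq_of_mul_eq_mul_right (hEa ▸ Nat.card_pos) (hmul.trans (one_mul a).symm))
    · refine Or.inr (Nat.eq_div_of_mul_eq_left ?_ hmul)
      exact fun hb0 => by rw [hb0] at e; exact Nat.card_pos.ne' e
    · exact absurd (Dvd.intro_left _ hmul) h.not_c_dvd_a
  have hnil : Group.IsNilpotent E := by
    by_cases hall : ∀ (r : ℕ) [Fact r.Prime] (S : Sylow r E), (S : Subgroup E) ≤ Subgroup.center E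
    · refine ((Group.isNilpotent_of_finite_tfae (G := E)).out 0 3).2 fun r hr S => ?_
      exact ⟨fun s hs g => by
        rw [Subgroup.mem_center_iff.1 (@hall r hr S s hs) g, mul_inv_cancel_right]; exact hs⟩
    · push Not at hall
      obtain ⟨r, hr, S, hS⟩ := hall
      haveI := hr
      haveI := Cfsg.Agent.S4135.result r S hS (⊤ : Subgroup E) le_top (a / b) fun x _ => hcase x
      exact Group.nilpotent_of_mulEquiv Subgroup.topEquiv
  haveI := hnil
  haveI : Group.IsSolvable (G ⧸ A) := by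
    refine Group.isSolvable_of_surjective (f := (QuotientGroup.mk' A).comp E.subtype) fun gb => ?_
    obtain ⟨g, rfl⟩ := QuotientGroup.mk'_surjective A gb
    obtain ⟨⟨u, e⟩, hue⟩ := hE.2 g
    refine ⟨e, ?_⟩
    show QuotientGroup.mk' A e = QuotientGroup.mk' A g
    rw [show g = (u : G) * e from hue.symm, map_mul, QuotientGroup.mk'_apply A (u : G),
      (QuotientGroup.eq_one_iff (u : G)).2 u.2, one_mul]
  have hAs : Group.IsSolvable A := Group.isSolvable_of_comm (A_comm hTI)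
  exact h.hns ((Group.isSolvable_iff_subgroup_quotient A).2 ⟨hAs, inferInstance⟩)

end Conf

end CfsgLib.FewSizes
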